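import Mathlib

/-!
# Five inequivalent triples with trivial stabilizers
-/

set_option autoImplicit false

namespace Cfsg.Agent.GStructB.ThreeBase

universe v w

/-- Five pairwise inequivalent triples whose stabilizers act trivially. -/
def Tri (A : Type v) (V : Type w) [Group A] [AddCommGroup V] [DistribMulAction A V] : Prop :=
  ∃ t : Fin 5 → V × V × V, ∀ i j, ∀ a : A, a • t i = t j → i = j ∧ ∀ x : V, a • x = x

end Cfsg.Agent.GStructB.ThreeBase
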