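import Cfsg.Agent.GStructB.ThreeBase.Setup

/-!
# Five pairs in the space of the chosen line

Five pairs of vectors in the span of the classes perpendicular to `U` at `w` that are pairwise
inequivalent under the elements fixing `w`, and whose stabilizers act linearly and fix those classes.
-/

set_option autoImplicit false
set_option linter.style.haveILetI false
set_option linter.unusedSectionVars false
set_option linter.unusedSimpArgs false

open MulAction

namespace Cfsg.Agent.GStructB.ThreeBase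

universe u

open OddBase (Pairing.perp Pairing.swap)
open CoprimeBase (IsScal Quasi QuotData scal_ne_zero)

variable {K : Type u} [Field K] {A : Type u} [Group A] {V : Type u} [AddCommGroup V] [Module K V]
  [DistribMulAction A V] {M : Subgroup A} {hn : M.Normal} {Y : Type u} [CommGroup Y]
  {f : A →* MulAut Y} {ω : Y →* Y →* Kˣ} {π : M →* Y}

/-- The vectors on which the stabilizer of the line of `w` acts through the class `y`. -/
def InCls (ω : Y →* Y →* Kˣ) (π : M →* Y) (w : V) (U : Subgroup Y) (y : Y) (v : V) : Prop :=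
  ∀ m : M, π m ∈ U → ∀ l : K, (m : A) • w = l • w → (m : A) • v = ((ω (π m) y : K) * l) • v

/-- Coefficients of the five pairs of scalars. -/
theorem five_scalars (θ : K) (h0 : θ ≠ 0) (h1 : θ ≠ 1) (σ : K →+* K) (p q : Fin 5)
    (e2 : σ (![θ, θ, θ, 0, 1] p) = ![θ, θ, θ, 0, 1] q)
    (e3 : σ (![0, 1, θ, θ, θ] p) = ![0, 1, θ, θ, θ] q) : p = q ∧ σ θ = θ := by
  have hσ0 : σ θ ≠ 0 := fun e => h0 ((map_eq_zero σ).mp e)
  have hσ1 : σ θ ≠ 1 := fun e => h1 (σ.injective (by rw [e, map_one]))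
  have := h0.symm; have := h1.symm; have := hσ0.symm; have := hσ1.symm
  fin_cases p <;> fin_cases q <;> simp_all

/-- Coefficients of the five pairs on a plane. -/
theorem five_plane (θ : K) (h0 : θ ≠ 0) (h1 : θ ≠ 1) (h2 : (2 : K) ≠ 0) (σ : K →+* K) (γ δ : K)
    (p q : Fin 5) (eA2 : σ (![1, 1, 1, 1, 0] p) * δ = ![1, 1, 1, 1, 0] q)
    (eB2 : σ (![1, 1, 1, 1, 0] p) * γ + σ (![0, 0, 0, 0, θ] p) = ![0, 0, 0, 0, θ] q)
    (eA3 : σ (![0, 1, -1, θ, 1] p) * δ = ![0, 1, -1, θ, 1] q)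
    (eB3 : σ (![0, 1, -1, θ, 1] p) * γ + σ (![θ, θ, θ, 0, 0] p) = ![θ, θ, θ, 0, 0] q) :
    p = q ∧ σ θ = θ ∧ γ = 0 ∧ δ = 1 := by
  have hσ0 : σ θ ≠ 0 := fun e => h0 ((map_eq_zero σ).mp e)
  have hσ1 : σ θ ≠ 1 := fun e => h1 (σ.injective (by rw [e, map_one]))
  have hn1 : (-1 : K) ≠ 1 := fun e => h2 (by linear_combination -e)
  have := h0.symm; have := h1.symm; have := hσ0.symm; have := hσ1.symm; have := hn1.symm
  fin_cases p <;> fin_cases q <;> simp_all

variable [Finite K] [Finite Y] [Nontrivial V] [FaithfulSMul A V] {w : V} {U : Subgroup Y}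

namespace Base

variable (hB : Base (K := K) V M hn f ω π w U)
include hB

theorem cls_self : InCls ω π w U 1 w := fun m _ l hl => by
  rw [map_one, Units.val_one, one_mul]; exact hl

theorem cls_smul (k : K) {y : Y} {v : V} (h : InCls ω π w U y v) : InCls ω π w U y (k • v) :=
  fun m hm l hl => by rw [hB.quasi.lin _ m.2, h m hm l hl, smul_comm]

theorem cls_zero (y : Y) : InCls ω π w U y 0 := fun m _ l _ => by rw [smul_zero, smul_zero]

theorem cls_add {y : Y} {v v' : V} (h : InCls ω π w U y v) (h' : InCls ω π w U y v') :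
    InCls ω π w U y (v + v') :=
  fun m hm l hl => by rw [smul_add, h m hm l hl, h' m hm l hl, smul_add]

theorem cls_move {y : Y} {v : V} (h : InCls ω π w U y v) (n : M) :
    InCls ω π w U (π n * y) ((n : A) • v) := fun m hm l hl => by
  rw [hB.data.comm, h m hm l hl, hB.quasi.lin _ n.2, smul_smul, map_mul, Units.val_mul, mul_assoc]

theorem cls_perp {n : M} (hn : π n ∈ Pairing.perp ω U) {v : V} (h : InCls ω π w U 1 v) :
    InCls ω π w U 1 ((n : A) • v) := fun m hm l hl => by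
  rw [hB.data.comm, h m hm l hl, hB.symm_one (hn _ hm), map_one, Units.val_one, one_smul, one_mul,
    hB.quasi.lin _ n.2]

/-- Elements fixing `w` keep `U`. -/
theorem f_mem {a : A} (ha : a • w = w) {y : Y} (hy : y ∈ U) : f a y ∈ U := by
  obtain ⟨m, rfl⟩ := hB.data.surj y
  rw [hB.data.equivariant, hB.mem_iff]
  obtain ⟨k, hk⟩ := (hB.mem_iff m).mp hy
  obtain ⟨σ, hσ⟩ := hB.quasi.semi a
  refine ⟨σ k, ?_⟩
  show (a * m * a⁻¹) • w = _
  rw [mul_smul, mul_smul, inv_smul_eq_iff.mpr ha.symm, hk, hσ, ha]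

theorem f_inv_mem {a : A} (ha : a • w = w) {y : Y} (hy : f a y ∈ U) : y ∈ U := by
  have h := hB.f_mem (a := a⁻¹) (inv_smul_eq_iff.mpr ha.symm) hy
  rwa [← MulAut.mul_apply, ← map_mul, inv_mul_cancel, map_one] at h

theorem f_perp {a : A} (ha : a • w = w) {y : Y} (hy : y ∈ Pairing.perp ω U) :
    f a y ∈ Pairing.perp ω U := by
  intro u hu
  have h := hy _ (hB.f_mem (a := a⁻¹) (inv_smul_eq_iff.mpr ha.symm) hu)
  rw [← hB.data.invariant a, ← MulAut.mul_apply, ← map_mul, mul_inv_cancel, map_one] at h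
  exact h

omit [Finite K] [Finite Y] [Nontrivial V] [FaithfulSMul A V] in
theorem conj_smul {a : A} (ha : a • w = w) (n : M) :
    ((⟨a * n * a⁻¹, hn.conj_mem _ n.2 a⟩ : M) : A) • w = a • (n : A) • w := by
  show (a * n * a⁻¹) • w = _
  rw [mul_smul, mul_smul, inv_smul_eq_iff.mpr ha.symm]

/-- Proportional translates of `w` have classes congruent modulo `U`. -/
theorem line {n n' : M} {l : K} (h : (n : A) • w = l • (n' : A) • w) : (π n')⁻¹ * π n ∈ U := by
  rw [← map_inv, ← map_mul, hB.mem_iff]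
  exact ⟨l, by rw [Subgroup.coe_mul, Subgroup.coe_inv, mul_smul, h, inv_smul_eq_iff, hB.quasi.lin _ n'.2]⟩

/-- The line of an element congruent to an involutory class. -/
theorem class_line {n c : M} (hnc : π n * π c ∈ U) (hc : π c ∈ Pairing.perp ω U) (hc2 : π c * π c = 1) :
    ∃ l : K, (n : A) • w = l • (c : A) • w := by
  rw [← map_mul] at hnc hc2
  obtain ⟨l, hl⟩ := (hB.mem_iff _).mp hnc
  obtain ⟨ξ, hξ⟩ := (hB.data.one_iff _).mp hc2
  refine ⟨ξ⁻¹ * l, ?_⟩
  have h := hB.data.comm (n * c) c w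
  rw [hB.symm_one (hc _ hnc), Units.val_one, one_smul, hl, hB.quasi.lin _ c.2] at h
  rw [show ((n * c : M) : A) • (c : A) • w = (n : A) • ((c * c : M) : A) • w by
    rw [Subgroup.coe_mul, Subgroup.coe_mul, mul_smul, mul_smul], hξ, hB.quasi.lin _ n.2] at h
  rw [← smul_smul, ← h, smul_smul, inv_mul_cancel₀ (scal_ne_zero hξ), one_smul]

/-- The pairs. -/
theorem exists_inner {θ : K} (h0 : θ ≠ 0) (h1 : θ ≠ 1)
    (hgen : ∀ σ : K →+* K, σ θ = θ → ∀ k : K, σ k = k) :
    ∃ z₂ z₃ : Fin 5 → V, (∀ p, InCls ω π w U 1 (z₂ p) ∧ InCls ω π w U 1 (z₃ p)) ∧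
      ∀ (p q : Fin 5) (a : A), a • w = w → a • z₂ p = z₂ q → a • z₃ p = z₃ q →
        p = q ∧ (∀ (k : K) (x : V), a • k • x = k • a • x) ∧
          ∀ n : M, π n ∈ Pairing.perp ω U → a • (n : A) • w = (n : A) • w := by
  rcases hB.trichotomy with hsplit | ⟨h2, i, hi, j, hj, ⟨hiU, hjU, hijU⟩, hi2, hj2, hcov⟩
  · refine ⟨fun p => ![θ, θ, θ, 0, 1] p • w, fun p => ![0, 1, θ, θ, θ] p • w,
      fun p => ⟨hB.cls_smul _ hB.cls_self, hB.cls_smul _ hB.cls_self⟩, fun p q a ha e2 e3 => ?_⟩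
    obtain ⟨σ, hσ⟩ := hB.quasi.semi a
    simp only [hσ, ha] at e2 e3
    obtain ⟨hpq, hθ⟩ := five_scalars θ h0 h1 σ.toRingHom p q (smul_left_injective K hB.ne e2)
      (smul_left_injective K hB.ne e3)
    have hid := hgen σ.toRingHom hθ
    refine ⟨hpq, fun k x => by rw [hσ, show σ k = k from hid k], fun n hn' => ?_⟩
    rw [hsplit] at hn'
    obtain ⟨l, hl⟩ := (hB.mem_iff n).mp hn'
    rw [hl, hσ, show σ l = l from hid l, ha]
  -- four classes
  obtain ⟨I, rfl⟩ := hB.data.surj i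
  obtain ⟨J, rfl⟩ := hB.data.surj j
  have hij : π I * π J ∈ Pairing.perp ω U := Subgroup.mul_mem _ hi hj
  obtain ⟨ξ, hξ⟩ := (hB.data.one_iff (I * I)).mp (by rw [map_mul, hi2])
  have hIw : InCls ω π w U 1 ((I : A) • w) := hB.cls_perp hi hB.cls_self
  have hJw : InCls ω π w U 1 ((J : A) • w) := hB.cls_perp hj hB.cls_self
  have hnotline : ∀ c : M, π c ∉ U → ∀ l : K, (c : A) • w ≠ l • w := fun c hc l hl =>
    hc ((hB.mem_iff c).mpr ⟨l, hl⟩)
  have hIne : ∀ a b : K, a • w + b • (I : A) • w = 0 → a = 0 ∧ b = 0 := by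
    intro a b e
    have hb : b = 0 := by
      by_contra hb
      refine hnotline I hiU (-(b⁻¹ * a)) ?_
      have h := congrArg (fun x => b⁻¹ • x) e
      simp only [smul_add, smul_zero, smul_smul, inv_mul_cancel₀ hb, one_smul] at h
      rw [neg_smul]
      exact eq_neg_of_add_eq_zero_right h
    refine ⟨?_, hb⟩
    rw [hb, zero_smul, add_zero] at e
    exact (smul_eq_zero.mp e).resolve_right hB.ne
  have hpair : ∀ a b a' b' : K, a • w + b • (I : A) • w = a' • w + b' • (I : A) • w → a = a' ∧ b = b' := by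
    intro a b a' b' e
    obtain ⟨ha, hb⟩ := hIne (a - a') (b - b') (by
      rw [sub_smul, sub_smul, sub_add_sub_comm, e, sub_self])
    exact ⟨sub_eq_zero.mp ha, sub_eq_zero.mp hb⟩
  have hII : ∀ x : V, (I : A) • (I : A) • x = ξ • x := fun x => by
    rw [← mul_smul]; exact hξ x
  -- images of the translates by the classes
  have hmove : ∀ a : A, a • w = w → ∀ c : M, π c ∈ Pairing.perp ω U → π c ∉ U →
      (∃ l : K, a • (c : A) • w = l • (I : A) • w) ∨ (∃ l : K, a • (c : A) • w = l • (J : A) • w) ∨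
        ∃ l : K, a • (c : A) • w = l • (I : A) • (J : A) • w := by
    intro a ha c hc hcU
    rw [← hB.conj_smul ha c]
    set c' : M := ⟨a * c * a⁻¹, hn.conj_mem _ c.2 a⟩ with hc'
    have hfc : π c' = f a (π c) := (hB.data.equivariant a c).symm
    rcases hcov _ (hfc ▸ hB.f_perp ha hc) with h | h | h | h
    · exact absurd (hB.f_inv_mem ha (hfc ▸ h)) hcU
    · exact Or.inl (hB.class_line h hi hi2)
    · exact Or.inr (Or.inl (hB.class_line h hj hj2))
    · refine Or.inr (Or.inr ?_)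
      obtain ⟨l, hl⟩ := hB.class_line (n := c') (c := I * J) (by rwa [map_mul]) (by rwa [map_mul])
        (by rw [map_mul, mul_mul_mul_comm, hi2, hj2, one_mul])
      exact ⟨l, by rw [hl, Subgroup.coe_mul, mul_smul]⟩
  have hfinal : ∀ a : A, a • w = w → (∀ (k : K) (x : V), a • k • x = k • a • x) →
      a • (I : A) • w = (I : A) • w → a • (J : A) • w = (J : A) • w →
      ∀ n : M, π n ∈ Pairing.perp ω U → a • (n : A) • w = (n : A) • w := by
    intro a ha hlin hIa hJa n hn'
    have hIJ : a • (I : A) • (J : A) • w = (I : A) • (J : A) • w := by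
      set I' : M := ⟨a * I * a⁻¹, hn.conj_mem _ I.2 a⟩ with hI'
      have hI'w : (I' : A) • w = (I : A) • w := (hB.conj_smul ha I).trans hIa
      have hmemU : (π I)⁻¹ * π I' ∈ U := hB.line (l := 1) (by rw [one_smul, hI'w])
      have hωeq : ω (π I') (π J) = ω (π I) (π J) := by
        have h := hB.symm_one (hj _ hmemU)
        rw [map_mul, MonoidHom.mul_apply, map_inv, MonoidHom.inv_apply, inv_mul_eq_one] at h
        exact h.symm
      calc a • (I : A) • (J : A) • w = (I' : A) • a • (J : A) • w := by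
            show _ = (a * I * a⁻¹) • a • (J : A) • w
            simp only [mul_smul, inv_smul_smul]
        _ = (I : A) • (J : A) • w := by
            rw [hJa, hB.data.comm, hI'w, hωeq, ← hB.data.comm]
    rcases hcov _ hn' with h | h | h | h
    · obtain ⟨l, hl⟩ := (hB.mem_iff n).mp h
      rw [hl, hlin, ha]
    · obtain ⟨l, hl⟩ := hB.class_line h hi hi2
      rw [hl, hlin, hIa]
    · obtain ⟨l, hl⟩ := hB.class_line h hj hj2
      rw [hl, hlin, hJa]
    · obtain ⟨l, hl⟩ := hB.class_line (n := n) (c := I * J) (by rwa [map_mul]) (by rwa [map_mul])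
        (by rw [map_mul, mul_mul_mul_comm, hi2, hj2, one_mul])
      rw [hl, Subgroup.coe_mul, mul_smul, hlin, hIJ]
  by_cases hdep : ∃ α β : K, (J : A) • w = α • w + β • (I : A) • w
  · obtain ⟨α, β, hJ⟩ := hdep
    refine ⟨fun p => ![0, 0, 0, 0, θ] p • w + ![1, 1, 1, 1, 0] p • (I : A) • w,
      fun p => ![θ, θ, θ, 0, 0] p • w + ![0, 1, -1, θ, 1] p • (I : A) • w,
      fun p => ⟨hB.cls_add (hB.cls_smul _ hB.cls_self) (hB.cls_smul _ hIw),
        hB.cls_add (hB.cls_smul _ hB.cls_self) (hB.cls_smul _ hIw)⟩, fun p q a ha e2 e3 => ?_⟩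
    obtain ⟨σ, hσ⟩ := hB.quasi.semi a
    obtain ⟨γ, δ, hγδ⟩ : ∃ γ δ : K, a • (I : A) • w = γ • w + δ • (I : A) • w := by
      rcases hmove a ha I hi hiU with ⟨l, hl⟩ | ⟨l, hl⟩ | ⟨l, hl⟩
      · exact ⟨0, l, by rw [hl, zero_smul, zero_add]⟩
      · exact ⟨l * α, l * β, by rw [hl, hJ, smul_add, smul_smul, smul_smul]⟩
      · refine ⟨l * (β * ξ), l * α, ?_⟩
        rw [hl, hJ, smul_add, hB.quasi.lin _ I.2, hB.quasi.lin _ I.2, hII, smul_add]
        simp only [smul_smul]
        rw [add_comm]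
    simp only [smul_add, hσ, ha, hγδ, smul_smul] at e2 e3
    rw [← add_assoc, ← add_smul] at e2 e3
    obtain ⟨eB2, eA2⟩ := hpair _ _ _ _ e2
    obtain ⟨eB3, eA3⟩ := hpair _ _ _ _ e3
    obtain ⟨hpq, hθ, hγ, hδ⟩ := five_plane θ h0 h1 h2 σ.toRingHom γ δ p q eA2
      ((add_comm _ _).trans eB2) eA3 ((add_comm _ _).trans eB3)
    have hid := hgen σ.toRingHom hθ
    have hlin : ∀ (k : K) (x : V), a • k • x = k • a • x := fun k x => by rw [hσ, show σ k = k from hid k]
    have hIa : a • (I : A) • w = (I : A) • w := by rw [hγδ, hγ, hδ, zero_smul, one_smul, zero_add]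
    exact ⟨hpq, hlin, hfinal a ha hlin hIa (by rw [hJ, smul_add, hlin, hlin, hIa, ha])⟩
  -- independent translates
  push Not at hdep
  have hζ : IsPrimitiveRoot (-1 : K) 2 :=
    primitive_of_pow Nat.prime_two (by norm_num) fun h => h2 (by linear_combination -h)
  have hξne : ∀ β : K, ξ ≠ β * β := fun β e => hiU (hB.eigen Nat.prime_two hζ I hi (k := β)
    (fun hb => scal_ne_zero hξ (by rw [e, hb, mul_zero])) fun x => by
      rw [sq, sq, mul_smul, hII, e])
  have hno1 : ∀ l a b : K, l ≠ 0 → l • (J : A) • w ≠ a • w + b • (I : A) • w := by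
    intro l a b hl e
    refine hdep (l⁻¹ * a) (l⁻¹ * b) ?_
    rw [← smul_smul, ← smul_smul, ← smul_add, ← e, smul_smul, inv_mul_cancel₀ hl, one_smul]
  have hno2 : ∀ l a b : K, l ≠ 0 → l • (I : A) • (J : A) • w ≠ a • w + b • (I : A) • w := by
    intro l a b hl e
    have h := congrArg (fun x => (I : A) • x) e
    rw [hB.quasi.lin _ I.2, smul_add, hB.quasi.lin _ I.2, hB.quasi.lin _ I.2, hII, hII, smul_smul,
      smul_smul] at h
    exact hno1 (l * ξ) (b * ξ) a (mul_ne_zero hl (scal_ne_zero hξ)) (h.trans (add_comm _ _))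
  have hno3 : ∀ l a b : K, l ≠ 0 → l • (I : A) • (J : A) • w ≠ a • w + b • (J : A) • w := by
    intro l a b hl e
    have h := congrArg (fun x => l • (I : A) • x) e
    simp only [smul_add, hB.quasi.lin _ I.2, hII] at h
    rw [smul_comm l b ((I : A) • (J : A) • w), e, smul_add] at h
    simp only [← mul_smul (α := K)] at h
    refine hno1 (l * (l * ξ) - b * b) (b * a) (l * a) ?_ ?_
    · intro h'
      exact hξne (b / l) (by field_simp; linear_combination h')
    · rw [sub_smul, h]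
      abel
  refine ⟨fun p => ![θ, θ, θ, 0, 1] p • w + (I : A) • w, fun p => ![0, 1, θ, θ, θ] p • w + (J : A) • w,
    fun p => ⟨hB.cls_add (hB.cls_smul _ hB.cls_self) hIw, hB.cls_add (hB.cls_smul _ hB.cls_self) hJw⟩,
    fun p q a ha e2 e3 => ?_⟩
  obtain ⟨σ, hσ⟩ := hB.quasi.semi a
  simp only [smul_add, hσ, ha] at e2 e3
  have hl0 : ∀ {c : M} {l : K} {u : V}, a • (c : A) • w = l • u → l ≠ 0 := by
    intro c l u h e
    rw [e, zero_smul, smul_eq_zero_iff_eq, smul_eq_zero_iff_eq] at h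
    exact hB.ne h
  set s := ![θ, θ, θ, 0, 1] with hs
  set t := ![0, 1, θ, θ, θ] with ht
  have hI' : σ (s p) = s q ∧ a • (I : A) • w = (I : A) • w := by
    rcases hmove a ha I hi hiU with ⟨l, hl⟩ | ⟨l, hl⟩ | ⟨l, hl⟩ <;> rw [hl] at e2
    · obtain ⟨h1', h2'⟩ := hpair (σ (s p)) l (s q) 1 (by rw [one_smul]; exact e2)
      exact ⟨h1', by rw [hl, h2', one_smul]⟩
    · refine absurd ?_ (hno1 l (s q - σ (s p)) 1 (hl0 hl))
      rw [sub_smul, one_smul, ← add_sub_right_comm, ← e2, add_sub_cancel_left]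
    · refine absurd ?_ (hno2 l (s q - σ (s p)) 1 (hl0 hl))
      rw [sub_smul, one_smul, ← add_sub_right_comm, ← e2, add_sub_cancel_left]
  have hJ' : σ (t p) = t q ∧ a • (J : A) • w = (J : A) • w := by
    rcases hmove a ha J hj hjU with ⟨l, hl⟩ | ⟨l, hl⟩ | ⟨l, hl⟩ <;> rw [hl] at e3
    · refine absurd ?_ (hno1 1 (σ (t p) - t q) l one_ne_zero)
      rw [sub_smul, one_smul, ← add_sub_right_comm, e3, add_sub_cancel_left]
    · have hl1 : l = 1 := by
        by_contra hne
        refine hno1 (l - 1) (t q - σ (t p)) 0 (sub_ne_zero.mpr hne) ?_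
        rw [sub_smul, sub_smul, one_smul, zero_smul, add_zero, eq_sub_iff_add_eq, sub_add_eq_add_sub,
          add_comm (l • (J : A) • w), e3, add_sub_cancel_right]
      rw [hl1, one_smul] at e3 hl
      exact ⟨smul_left_injective K hB.ne (add_right_cancel e3), hl⟩
    · refine absurd ?_ (hno3 l (t q - σ (t p)) 1 (hl0 hl))
      rw [sub_smul, one_smul, ← add_sub_right_comm, ← e3, add_sub_cancel_left]
  obtain ⟨hpq, hθ⟩ := five_scalars θ h0 h1 σ.toRingHom p q hI'.1 hJ'.1
  have hid := hgen σ.toRingHom hθ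
  have hlin : ∀ (k : K) (x : V), a • k • x = k • a • x := fun k x => by rw [hσ, show σ k = k from hid k]
  exact ⟨hpq, hlin, hfinal a ha hlin hI'.2 hJ'.2⟩

end Base

end Cfsg.Agent.GStructB.ThreeBase
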