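import Cfsg.Agent.GStructB.ThreeBase.Quasi
import Cfsg.Agent.GStructB.CoprimeBase.Field
import Cfsg.Agent.GStructB.CoprimeBase.Imprim

/-!
# Completely reducible solvable groups have bases of three vectors

Induction along sums and systems of imprimitivity, with colourings of primitive solvable groups by five
colours; the remaining groups fall in the quasi-primitive setting.
-/

set_option autoImplicit false
set_option linter.style.haveILetI false
set_option linter.unusedSectionVars false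

open MulAction

namespace Cfsg.Agent.GStructB.ThreeBase

universe u v w

open scoped Pointwise
open OddBase (ComplRed Irred subAction complRed_of_irred fixedSub mem_fixedSub)
open CoprimeBase (Imprimitive coatom_of_max prim_cols field_or_imprimitive exists_quasi)

/-- The statement for faithful actions on groups of order `n`. -/
def FaithTri (n : ℕ) : Prop :=
  ∀ (A : Type u) [Group A] [Finite A] (V : Type u) [AddCommGroup V] [Finite V] [DistribMulAction A V]
    [FaithfulSMul A V], Group.IsSolvable A → ComplRed A V → Nat.card V = n → 1 < n → Tri A V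

/-- An action that need not be faithful. -/
theorem tri_of_faith {n : ℕ} (h : FaithTri.{u} n) {A : Type v} [Group A] [Finite A] {V : Type u}
    [AddCommGroup V] [Finite V] [DistribMulAction A V] (hs : Group.IsSolvable A) (hcr : ComplRed A V)
    (hV : Nat.card V = n) (hn : 1 < n) : Tri A V := by
  let f : A →* (AddMonoid.End V)ˣ := (DistribMulAction.toAddMonoidEnd A V).toHomUnits
  have hf : ∀ (a : A) (x : V), (f.rangeRestrict a) • x = a • x := fun a x => rfl
  haveI : Finite f.range := Finite.of_surjective f.rangeRestrict f.rangeRestrict_surjective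
  haveI : FaithfulSMul f.range V := ⟨fun {g h} e => Subtype.ext (Units.ext (AddMonoidHom.ext fun x => e x))⟩
  haveI := hs
  have hcr' : ComplRed f.range V := fun U hU => by
    obtain ⟨W, hW, h1, h2⟩ := hcr U fun a x hx => (hf a x) ▸ hU (f.rangeRestrict a) x hx
    refine ⟨W, fun g x hx => ?_, h1, h2⟩
    obtain ⟨a, rfl⟩ := f.rangeRestrict_surjective g
    rw [hf]
    exact hW a x hx
  obtain ⟨t, ht⟩ := h f.range V (Group.isSolvable_of_surjective f.rangeRestrict_surjective) hcr' hV hn
  exact ⟨t, fun i j a ha => ht i j (f.rangeRestrict a) (Prod.ext (congrArg Prod.fst ha :)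
    (Prod.ext (congrArg (fun p : V × V × V => p.2.1) ha :) (congrArg (fun p : V × V × V => p.2.2) ha :)))⟩

/-- Invariant subgroups of completely reducible groups are completely reducible. -/
theorem complRed_sub {A : Type v} [Group A] {V : Type w} [AddCommGroup V] [DistribMulAction A V]
    (hcr : ComplRed A V) {W : AddSubgroup V} (hW : ∀ a : A, ∀ x ∈ W, a • x ∈ W) :
    letI := subAction W hW; ComplRed A W := by
  letI := subAction W hW
  intro Z hZ
  have hZinv : ∀ a : A, ∀ x ∈ Z.map W.subtype, a • x ∈ Z.map W.subtype := by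
    rintro a _ ⟨z, hz, rfl⟩
    exact ⟨a • z, hZ a z hz, rfl⟩
  obtain ⟨C, hC, hb, ht⟩ := hcr _ hZinv
  refine ⟨C.comap W.subtype, fun a x hx => hC a x.1 hx, ?_, ?_⟩
  · rw [eq_bot_iff]
    rintro x ⟨hxZ, hxC⟩
    have : (x : V) ∈ Z.map W.subtype ⊓ C := ⟨⟨x, hxZ, rfl⟩, hxC⟩
    rw [hb] at this
    exact Subtype.ext this
  · rw [eq_top_iff]
    intro x _
    obtain ⟨y, hy, c, hc, e⟩ := AddSubgroup.mem_sup.mp (ht ▸ AddSubgroup.mem_top (x : V))
    obtain ⟨z, hz, rfl⟩ := hy
    refine AddSubgroup.mem_sup.mpr ⟨z, hz, ⟨c, ?_⟩, hc, Subtype.ext e⟩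
    rw [← sub_eq_of_eq_add' (G := V) e.symm]
    exact W.sub_mem x.2 z.2

/-- Sums. -/
theorem tri_of_split {A : Type v} [Group A] {V : Type w} [AddCommGroup V] [DistribMulAction A V]
    {U W : AddSubgroup V} (hU : ∀ a : A, ∀ x ∈ U, a • x ∈ U) (hW : ∀ a : A, ∀ x ∈ W, a • x ∈ W)
    (hUW : U ⊓ W = ⊥) (hsup : U ⊔ W = ⊤)
    (hgU : letI := subAction U hU; Tri A U) (hgW : letI := subAction W hW; Tri A W) : Tri A V := by
  letI := subAction U hU
  letI := subAction W hW
  obtain ⟨f, hf⟩ := hgU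
  obtain ⟨g, hg⟩ := hgW
  have huniq : ∀ (u u' : U) (w w' : W), (u : V) + w = u' + w' → u = u' ∧ w = w' := by
    intro u u' w w' e
    have h : (u : V) - u' = w' - w := by rw [sub_eq_sub_iff_add_eq_add, e, add_comm]
    have : (u : V) - u' ∈ U ⊓ W := ⟨U.sub_mem u.2 u'.2, h ▸ W.sub_mem w'.2 w.2⟩
    rw [hUW, AddSubgroup.mem_bot, sub_eq_zero] at this
    exact ⟨Subtype.ext this, Subtype.ext (add_left_cancel (this ▸ e))⟩
  refine ⟨fun i => (((f i).1 : V) + (g 0).1, ((f i).2.1 : V) + (g 0).2.1, ((f i).2.2 : V) + (g 0).2.2),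
    fun i j a ha => ?_⟩
  have e1 := huniq (a • (f i).1) (f j).1 (a • (g 0).1) (g 0).1
    ((smul_add a _ _).symm.trans (congrArg Prod.fst ha))
  have e2 := huniq (a • (f i).2.1) (f j).2.1 (a • (g 0).2.1) (g 0).2.1
    ((smul_add a _ _).symm.trans (congrArg (fun p : V × V × V => p.2.1) ha))
  have e3 := huniq (a • (f i).2.2) (f j).2.2 (a • (g 0).2.2) (g 0).2.2
    ((smul_add a _ _).symm.trans (congrArg (fun p : V × V × V => p.2.2) ha))
  obtain ⟨hij, htU⟩ := hf i j a (Prod.ext e1.1 (Prod.ext e2.1 e3.1))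
  obtain ⟨-, htW⟩ := hg 0 0 a (Prod.ext e1.2 (Prod.ext e2.2 e3.2))
  refine ⟨hij, fun x => ?_⟩
  obtain ⟨u, hu, w, hw, rfl⟩ := AddSubgroup.mem_sup.mp (hsup ▸ AddSubgroup.mem_top x)
  rw [smul_add]
  exact congrArg₂ (· + ·) (congrArg Subtype.val (htU ⟨u, hu⟩)) (congrArg Subtype.val (htW ⟨w, hw⟩))

/-- The imprimitive step. -/
theorem tri_of_imprimitive {A : Type u} [Group A] [Finite A] {V : Type u} [AddCommGroup V] [Finite V]
    [DistribMulAction A V] (hs : Group.IsSolvable A) (ih : ∀ m < Nat.card V, FaithTri.{u} m)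
    (hirr : Irred A V) (himp : Imprimitive A V) : Tri A V := by
  classical
  obtain ⟨T, ⟨hT, hind, hmove⟩, hmax⟩ := Set.Finite.exists_maximalFor
    (fun T : AddSubgroup V => Nat.card T)
    {T : AddSubgroup V | T ≠ ⊥ ∧ (iSupIndep fun U : MulAction.orbit A T => (U : AddSubgroup V)) ∧
      ∃ a : A, a • T ≠ T} (Set.toFinite _) himp
  have hmax' : ∀ T' : AddSubgroup V, T' ≠ ⊥ →
      (iSupIndep fun U : MulAction.orbit A T' => (U : AddSubgroup V)) → (∃ a : A, a • T' ≠ T') →
      Nat.card T' ≤ Nat.card T := fun T' h1 h2 h3 => by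
    by_contra h
    push Not at h
    exact absurd (hmax (j := T') ⟨h1, h2, h3⟩ h.le) (not_le.mpr h)
  set Q := MulAction.orbit A T
  haveI : Fintype Q := Fintype.ofFinite Q
  let q₀ : Q := ⟨T, mem_orbit_self T⟩
  have hq : ∀ U : Q, ∃ t : A, t • T = U := fun U => mem_orbit_iff.mp U.2
  choose t ht using hq
  have hact : ∀ (g : A) (U : Q), ((g • U : Q) : AddSubgroup V) = g • (U : AddSubgroup V) := fun g U => rfl
  set H := stabilizer A T with hH
  have hco : IsCoatom (stabilizer A q₀) := by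
    rw [show stabilizer A q₀ = stabilizer A T from Subgroup.ext fun a => by
      rw [mem_stabilizer_iff, mem_stabilizer_iff, Subtype.ext_iff]
      rfl]
    exact coatom_of_max T hT hind hmove hmax'
  have hQ1 : 1 < Nat.card Q := by
    obtain ⟨a, ha⟩ := hmove
    haveI : Nontrivial Q := ⟨⟨a • q₀, q₀, fun e => ha (congrArg Subtype.val e)⟩⟩
    exact Finite.one_lt_card
  obtain ⟨col, hcol1, hcol2⟩ := prim_cols (A := A) (Ω := Q) hs (c := 5) (Or.inl rfl)
    (fun h => absurd h (by norm_num)) q₀ hQ1 hco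
  letI : DistribMulAction H T :=
    { smul := fun h x => ⟨(h : A) • x.1, by
        have hx := AddSubgroup.smul_mem_pointwise_smul x.1 (h : A) T x.2
        rwa [show (h : A) • T = T from h.2] at hx⟩
      one_smul := fun x => Subtype.ext (one_smul A x.1)
      mul_smul := fun g h x => Subtype.ext (mul_smul (g : A) (h : A) x.1)
      smul_zero := fun g => Subtype.ext (smul_zero (g : A))
      smul_add := fun g x y => Subtype.ext (smul_add (g : A) x.1 y.1) }
  have hT1 : 1 < Nat.card T := by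
    haveI := (AddSubgroup.nontrivial_iff_ne_bot T).mpr hT
    exact Finite.one_lt_card
  -- the blocks span
  have hspan : ∀ S : AddSubgroup V, S ≤ T → S ≠ ⊥ → (∀ h ∈ H, ∀ x ∈ S, h • x ∈ S) →
      ⨆ U : Q, t U • S = ⊤ := by
    intro S hST hS0 hSH
    refine (hirr _ fun a x hx => ?_).resolve_left fun h => hS0 ?_
    · have hle : a • (⨆ U : Q, t U • S) ≤ ⨆ U : Q, t U • S := by
        rw [AddSubgroup.pointwise_smul_le_iff]
        refine iSup_le fun U => ?_
        rw [← AddSubgroup.pointwise_smul_le_iff]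
        refine le_iSup_of_le (a • U) ?_
        rintro _ ⟨y, ⟨s, hs', rfl⟩, rfl⟩
        refine ⟨((t (a • U))⁻¹ * a * t U) • s, hSH _ ?_ s hs', ?_⟩
        · rw [hH, mem_stabilizer_iff, mul_smul, mul_smul, ht, inv_smul_eq_iff, ht, hact]
        · show t (a • U) • ((t (a • U))⁻¹ * a * t U) • s = a • t U • s
          simp only [mul_smul, smul_inv_smul]
      exact hle (AddSubgroup.smul_mem_pointwise_smul x a _ hx)
    · rw [eq_bot_iff]
      intro s hs'
      have h' : t q₀ • s ∈ (⊥ : AddSubgroup V) :=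
        h.le ((le_iSup (fun U : Q => t U • S) q₀) (AddSubgroup.smul_mem_pointwise_smul s _ _ hs'))
      rw [AddSubgroup.mem_bot, smul_eq_zero_iff_eq] at h'
      exact h'
  have hirrT : Irred H T := by
    intro Z hZ
    by_cases hb : Z = ⊥
    · exact Or.inl hb
    refine Or.inr ?_
    set S := Z.map T.subtype with hS
    have hST : S ≤ T := by
      rintro _ ⟨z, -, rfl⟩
      exact z.2
    have hS0 : S ≠ ⊥ := fun e => hb ((AddSubgroup.map_eq_bot_iff_of_injective _ T.subtype_injective).mp e)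
    have hSH : ∀ h ∈ H, ∀ x ∈ S, h • x ∈ S := by
      rintro h hh _ ⟨z, hz, rfl⟩
      exact ⟨(⟨h, hh⟩ : H) • z, hZ _ z hz, rfl⟩
    rw [eq_top_iff]
    intro x _
    -- compare the component at `q₀`
    have hx : (t q₀ • (x : V)) ∈ (t q₀ • S : AddSubgroup V) ⊔ ⨆ (W : Q) (_ : W ≠ q₀), t W • S := by
      have : (⊤ : AddSubgroup V) ≤ (t q₀ • S : AddSubgroup V) ⊔ ⨆ (W : Q) (_ : W ≠ q₀), t W • S := by
        rw [← hspan S hST hS0 hSH]
        refine iSup_le fun W => ?_
        by_cases hW : W = q₀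
        · subst hW; exact le_sup_left
        · exact le_sup_of_le_right (le_iSup₂ (f := fun (W : Q) (_ : W ≠ q₀) => t W • S) W hW)
      exact this (AddSubgroup.mem_top _)
    obtain ⟨y, hy, z, hz, e⟩ := AddSubgroup.mem_sup.mp hx
    have hle : ∀ W : Q, t W • S ≤ (W : AddSubgroup V) := fun W => by
      rintro _ ⟨s, hs', rfl⟩
      exact ht W ▸ AddSubgroup.smul_mem_pointwise_smul _ _ _ (hST hs')
    have hz0 : z = 0 := by
      have hd := hind q₀
      rw [AddSubgroup.disjoint_def] at hd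
      refine hd ?_ (iSup₂_mono (fun W _ => hle W) hz)
      rw [show z = t q₀ • (x : V) - y by rw [← e, add_sub_cancel_left]]
      refine sub_mem ?_ (hle q₀ hy)
      show t q₀ • (x : V) ∈ (q₀ : AddSubgroup V)
      rw [← ht q₀]
      exact AddSubgroup.smul_mem_pointwise_smul _ _ _ x.2
    rw [hz0, add_zero] at e
    obtain ⟨s, hs', rfl⟩ := hy
    have hsx : s = (x : V) := MulAction.injective (t q₀) e
    obtain ⟨z', hz', hzs⟩ := hs'
    rwa [show x = z' from Subtype.ext (hsx ▸ hzs.symm)]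
  have hTV : Nat.card T < Nat.card V := by
    refine lt_of_le_of_ne (Nat.card_le_card_of_injective _ T.subtype_injective) fun e => ?_
    obtain ⟨a, ha⟩ := hmove
    have htop := AddSubgroup.eq_top_of_card_eq _ e
    refine ha ?_
    rw [htop, eq_top_iff]
    intro x _
    exact ⟨a⁻¹ • x, AddSubgroup.mem_top _, smul_inv_smul _ _⟩
  obtain ⟨f, hf⟩ := tri_of_faith (A := H) (V := T) (ih _ hTV)
    (haveI := hs; Group.isSolvable_of_isSolvable_injective H.subtype_injective) (complRed_of_irred hirrT) rfl hT1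
  let σ : (∀ U : Q, ↥(U : AddSubgroup V)) → V := fun f => ∑ U : Q, (f U : V)
  have hσinj : ∀ f f' : (∀ U : Q, ↥(U : AddSubgroup V)), σ f = σ f' → f = f' := by
    intro f f' e
    funext U
    refine Subtype.ext (sub_eq_zero.mp ?_)
    have hsum : ∑ W : Q, ((f W : V) - f' W) = 0 := by
      rw [Finset.sum_sub_distrib]; exact sub_eq_zero.mpr e
    have hd := hind U
    rw [AddSubgroup.disjoint_def] at hd
    refine hd (sub_mem (f U).2 (f' U).2) ?_
    rw [← Finset.add_sum_erase _ _ (Finset.mem_univ U)] at hsum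
    rw [eq_neg_of_add_eq_zero_left hsum]
    refine neg_mem (sum_mem fun W hW => ?_)
    exact le_iSup₂ (f := fun (W : Q) (_ : W ≠ U) => (W : AddSubgroup V)) W
      (Finset.ne_of_mem_erase hW) (sub_mem (f W).2 (f' W).2)
  have hm : ∀ (x : T) (U : Q), t U • (x : V) ∈ (U : AddSubgroup V) := fun x U =>
    ht U ▸ AddSubgroup.smul_mem_pointwise_smul _ _ _ x.2
  let F : (T × T × T → T) → Fin 5 → V := fun pr i => ∑ U : Q, t U • ((pr (f (col i U)) : T) : V)
  have hst : ∀ (g : A) (U : Q), (t (g • U))⁻¹ * g * t U ∈ H := fun g U => by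
    rw [hH, mem_stabilizer_iff, mul_smul, mul_smul, ht, inv_smul_eq_iff, ht, hact]
  have key : ∀ (pr : T × T × T → T) (g : A) (i j : Fin 5), g • F pr i = F pr j →
      ∀ U : Q, (⟨_, hst g U⟩ : H) • pr (f (col i U)) = pr (f (col j (g • U))) := by
    intro pr g i j e U
    have hmem : ∀ W : Q, g • t (g⁻¹ • W) • ((pr (f (col i (g⁻¹ • W)))) : V) ∈ (W : AddSubgroup V) := by
      intro W
      have := AddSubgroup.smul_mem_pointwise_smul _ g _ (hm (pr (f (col i (g⁻¹ • W)))) (g⁻¹ • W))
      rwa [← hact, smul_inv_smul] at this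
    have := hσinj (fun W => ⟨_, hmem W⟩) (fun W => ⟨_, hm (pr (f (col j W))) W⟩) (by
      show ∑ W : Q, g • t (g⁻¹ • W) • ((pr (f (col i (g⁻¹ • W)))) : V) = F pr j
      rw [← e, Finset.smul_sum]
      exact Fintype.sum_equiv (MulAction.toPerm g⁻¹) _ _ fun W => rfl)
    have h := congrArg Subtype.val (congrFun this (g • U))
    simp only [inv_smul_smul] at h
    refine Subtype.ext ?_
    show ((t (g • U))⁻¹ * g * t U) • ((pr (f (col i U))) : V) = _
    rw [mul_smul, mul_smul, h, inv_smul_smul]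
  refine ⟨fun i => (F (fun p => p.1) i, F (fun p => p.2.1) i, F (fun p => p.2.2) i), fun i j g hg => ?_⟩
  have hk : ∀ U : Q, (⟨_, hst g U⟩ : H) • f (col i U) = f (col j (g • U)) := fun U =>
    Prod.ext (key (fun p => p.1) g i j (congrArg Prod.fst hg) U)
      (Prod.ext (key (fun p => p.2.1) g i j (congrArg (fun p : V × V × V => p.2.1) hg) U)
        (key (fun p => p.2.2) g i j (congrArg (fun p : V × V × V => p.2.2) hg) U))
  have hij : i = j := hcol2 i j g fun U => (hf _ _ _ (hk U)).1.symm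
  subst hij
  refine ⟨rfl, fun x => ?_⟩
  have hfix : ∀ U : Q, g • U = U := hcol1 i g fun U => (hf _ _ _ (hk U)).1.symm
  have hall : ∀ (U : Q) (x : T), g • t U • (x : V) = t U • (x : V) := fun U x => by
    have h := congrArg Subtype.val ((hf _ _ _ (hk U)).2 x)
    change ((t (g • U))⁻¹ * g * t U) • (x : V) = x at h
    rwa [hfix U, mul_smul, mul_smul, inv_smul_eq_iff] at h
  suffices htop : fixedSub V g = ⊤ from mem_fixedSub.mp (htop ▸ AddSubgroup.mem_top x)
  rw [eq_top_iff, ← hspan T le_rfl hT (fun h hh y hy => by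
    have := AddSubgroup.smul_mem_pointwise_smul y h T hy
    rwa [show h • T = T from hh] at this)]
  refine iSup_le fun U => ?_
  rintro _ ⟨y, hy, rfl⟩
  exact mem_fixedSub.mpr (hall U ⟨y, hy⟩)

/-- Triples for all orders. -/
theorem faithTri : ∀ n : ℕ, FaithTri.{u} n := by
  intro n
  induction n using Nat.strong_induction_on with
  | _ n ih =>
  intro A _ _ V _ _ _ _ hs hcr hV hn
  subst hV
  haveI : Nontrivial V := Finite.one_lt_card_iff_nontrivial.mp hn
  by_cases hirr : Irred A V
  · by_cases himp : Imprimitive A V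
    · exact tri_of_imprimitive hs ih hirr himp
    · obtain ⟨K, _, _, _, M, hQ⟩ := exists_quasi (V := V) hs fun B hBn hB =>
        haveI := hBn
        (field_or_imprimitive hirr hn B hB).resolve_left himp
      exact tri_quasi hQ
  unfold Irred at hirr
  push Not at hirr
  obtain ⟨U, hU, hU0, hU1⟩ := hirr
  obtain ⟨W, hW, hUW, hsup⟩ := hcr U hU
  have hW1 : W ≠ ⊤ := fun e => hU0 (by rwa [e, inf_top_eq] at hUW)
  have hW0 : W ≠ ⊥ := fun e => hU1 (by rwa [e, sup_bot_eq] at hsup)
  have key : ∀ X : AddSubgroup V, X ≠ ⊥ → X ≠ ⊤ → ∀ hX : (∀ a : A, ∀ x ∈ X, a • x ∈ X),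
      letI := subAction X hX; Tri A X := by
    intro X hX0 hX1 hX
    letI := subAction X hX
    have h1 : 1 < Nat.card X := by
      haveI := (AddSubgroup.nontrivial_iff_ne_bot X).mpr hX0
      exact Finite.one_lt_card
    have h2 : Nat.card X < Nat.card V :=
      lt_of_le_of_ne (Nat.card_le_card_of_injective _ X.subtype_injective) fun e =>
        hX1 (AddSubgroup.eq_top_of_card_eq _ e)
    exact tri_of_faith (ih _ h2) hs (complRed_sub hcr hX) rfl h1
  exact tri_of_split hU hW hUW hsup (key U hU0 hU1 hU) (key W hW0 hW1 hW)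

/-- A base of three vectors. -/
theorem three_vectors {A : Type v} [Group A] [Finite A] {V : Type u} [AddCommGroup V] [Finite V]
    [DistribMulAction A V] (hs : Group.IsSolvable A) (hcr : ComplRed A V) :
    ∃ v₁ v₂ v₃ : V, ∀ a : A, a • v₁ = v₁ → a • v₂ = v₂ → a • v₃ = v₃ → ∀ x : V, a • x = x := by
  rcases subsingleton_or_nontrivial V with h | h
  · exact ⟨0, 0, 0, fun a _ _ _ x => Subsingleton.elim _ _⟩
  obtain ⟨t, ht⟩ := tri_of_faith (faithTri _) hs hcr rfl Finite.one_lt_card
  exact ⟨(t 0).1, (t 0).2.1, (t 0).2.2, fun a e1 e2 e3 => (ht 0 0 a (Prod.ext e1 (Prod.ext e2 e3))).2⟩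

end Cfsg.Agent.GStructB.ThreeBase
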