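import Cfsg.Agent.GStructB.ThreeBase.Inner
import Cfsg.Agent.GStructB.ThreeBase.Defs

/-!
# Triples in the quasi-primitive setting

A vector `w` with largest line stabilizer, the sum of the translates of `w` by independent generators of
the classes, and the sum of the translates by intervals of generators, with one marked generator, have
a trivial common stabilizer in the whole normaliser of `M`.
-/

set_option autoImplicit false
set_option linter.style.haveILetI false
set_option linter.unusedSectionVars false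

open MulAction

namespace Cfsg.Agent.GStructB.ThreeBase

universe u

open OddBase (Pairing.perp Pairing.swap)
open CoprimeBase (IsScal Quasi QuotData scal_ne_zero)

section lists

variable {Y : Type u} [CommGroup Y]

/-- Sorted words with small multiplicities. -/
def GoodList (k : ℕ) (r : ℕ → ℕ) (ls : List ℕ) : Prop :=
  ls.Pairwise (· ≤ ·) ∧ ∀ x ∈ ls, x < k ∧ ls.count x < r x

theorem prod_map_eq {k : ℕ} (y : ℕ → Y) {ls : List ℕ} (h : ∀ x ∈ ls, x < k) :
    (ls.map y).prod = ∏ l ∈ Finset.range k, y l ^ ls.count l := by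
  rw [Finset.prod_list_map_count]
  refine Finset.prod_subset (fun x hx => Finset.mem_range.mpr (h x (List.mem_toFinset.mp hx))) fun x _ hx => ?_
  rw [List.count_eq_zero.mpr fun h' => hx (List.mem_toFinset.mpr h'), pow_zero]

/-- Good words are determined by their classes. -/
theorem eq_of_congr {k : ℕ} {r : ℕ → ℕ} {y : ℕ → Y} {P : Subgroup Y} (hr : ∀ l < k, (r l).Prime)
    (hind : ∀ e e' : ℕ → ℕ, (∀ l < k, e l < r l ∧ e' l < r l) →
      (∏ l ∈ Finset.range k, y l ^ e l)⁻¹ * ∏ l ∈ Finset.range k, y l ^ e' l ∈ P → ∀ l < k, e l = e' l)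
    {ls ls' : List ℕ} (h : GoodList k r ls) (h' : GoodList k r ls')
    (hc : (ls.map y).prod⁻¹ * (ls'.map y).prod ∈ P) : ls = ls' := by
  rw [prod_map_eq y fun x hx => (h.2 x hx).1, prod_map_eq y fun x hx => (h'.2 x hx).1] at hc
  have hb : ∀ (m : List ℕ), GoodList k r m → ∀ l < k, m.count l < r l := fun m hm l hl => by
    by_cases hlm : l ∈ m
    · exact (hm.2 l hlm).2
    · rw [List.count_eq_zero.mpr hlm]; exact (hr l hl).pos
  have he := hind _ _ (fun l hl => ⟨hb ls h l hl, hb ls' h' l hl⟩) hc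
  have hperm : ls.Perm ls' := List.perm_iff_count.mpr fun x => by
    by_cases hx : x < k
    · exact he x hx
    · rw [List.count_eq_zero.mpr fun m => hx (h.2 x m).1, List.count_eq_zero.mpr fun m => hx (h'.2 x m).1]
  exact hperm.eq_of_pairwise (fun a b _ _ h1 h2 => le_antisymm h1 h2) h.1 h'.1

/-- The words of the second vector. -/
def words₂ (k : ℕ) : Finset (List ℕ) := insert [] ((Finset.range k).image fun l => [l])

/-- The words of the third vector. -/
def words₃ (k : ℕ) (r : ℕ → ℕ) : Finset (List ℕ) :=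
  insert [] ((((Finset.range k).filter fun l => l = 0).image fun l => [l]) ∪
    ((((Finset.range k) ×ˢ (Finset.range (k + 1))).filter fun p => 2 ≤ p.2 ∧ p.1 + p.2 ≤ k).image
      fun p => List.range' p.1 p.2) ∪
    (((Finset.range k).filter fun l => r l ≠ 2).image fun l => [l, l]))

theorem mem_words₂ {k : ℕ} {ls : List ℕ} : ls ∈ words₂ k ↔ ls = [] ∨ ∃ l < k, ls = [l] := by
  simp [words₂, eq_comm]

theorem mem_words₃ {k : ℕ} {r : ℕ → ℕ} {ls : List ℕ} : ls ∈ words₃ k r ↔ ls = [] ∨ (0 < k ∧ ls = [0]) ∨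
    (∃ a n, 2 ≤ n ∧ a + n ≤ k ∧ ls = List.range' a n) ∨ ∃ l < k, r l ≠ 2 ∧ ls = [l, l] := by
  simp only [words₃, Finset.mem_insert, Finset.mem_union, Finset.mem_image, Finset.mem_filter,
    Finset.mem_range, Finset.mem_product, Prod.exists]
  constructor
  · rintro (h | (⟨l, ⟨hl, rfl⟩, rfl⟩ | ⟨a, n, ⟨-, h1, h2⟩, rfl⟩) | ⟨l, ⟨hl, h⟩, rfl⟩)
    · exact Or.inl h
    · exact Or.inr (Or.inl ⟨hl, rfl⟩)
    · exact Or.inr (Or.inr (Or.inl ⟨a, n, h1, h2, rfl⟩))
    · exact Or.inr (Or.inr (Or.inr ⟨l, hl, h, rfl⟩))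
  · rintro (h | ⟨h, rfl⟩ | ⟨a, n, h1, h2, rfl⟩ | ⟨l, hl, h, rfl⟩)
    · exact Or.inl h
    · exact Or.inr (Or.inl (Or.inl ⟨0, ⟨h, rfl⟩, rfl⟩))
    · exact Or.inr (Or.inl (Or.inr ⟨a, n, ⟨⟨by omega, by omega⟩, h1, h2⟩, rfl⟩))
    · exact Or.inr (Or.inr ⟨l, ⟨hl, h⟩, rfl⟩)

theorem good_single {k : ℕ} {r : ℕ → ℕ} (hr : ∀ l < k, (r l).Prime) {l : ℕ} (hl : l < k) :
    GoodList k r [l] := ⟨List.pairwise_singleton _ _, fun x hx => by
  rw [List.mem_singleton.mp hx]
  exact ⟨hl, by simpa using (hr l hl).one_lt⟩⟩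

theorem good_range {k : ℕ} {r : ℕ → ℕ} (hr : ∀ l < k, (r l).Prime) {a n : ℕ} (h : a + n ≤ k) :
    GoodList k r (List.range' a n) := by
  refine ⟨List.Pairwise.imp (fun {x y} h => Nat.le_of_lt h) List.pairwise_lt_range', fun x hx => ?_⟩
  have hxk : x < k := by rw [List.mem_range'_1] at hx; omega
  exact ⟨hxk, lt_of_le_of_lt (List.nodup_iff_count_le_one.mp List.nodup_range' x) (hr x hxk).one_lt⟩

theorem good_nil {k : ℕ} {r : ℕ → ℕ} : GoodList k r [] :=
  ⟨List.Pairwise.nil, fun x hx => absurd hx List.not_mem_nil⟩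

theorem good_words₂ {k : ℕ} {r : ℕ → ℕ} (hr : ∀ l < k, (r l).Prime) {ls : List ℕ} (h : ls ∈ words₂ k) :
    GoodList k r ls := by
  rcases mem_words₂.mp h with rfl | ⟨l, hl, rfl⟩
  · exact good_nil
  · exact good_single hr hl

theorem good_words₃ {k : ℕ} {r : ℕ → ℕ} (hr : ∀ l < k, (r l).Prime) {ls : List ℕ} (h : ls ∈ words₃ k r) :
    GoodList k r ls := by
  rcases mem_words₃.mp h with rfl | ⟨hk, rfl⟩ | ⟨a, n, -, hle, rfl⟩ | ⟨l, hl, hl2, rfl⟩
  · exact good_nil
  · exact good_single hr hk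
  · exact good_range hr hle
  · refine ⟨by simp, fun x hx => ?_⟩
    obtain rfl : x = l := by simpa using hx
    refine ⟨hl, ?_⟩
    have h2 := (hr x hl).two_le
    simp
    omega

end lists

variable {K : Type u} [Field K] {A : Type u} [Group A] {V : Type u} [AddCommGroup V] [Module K V]
  [DistribMulAction A V] {M : Subgroup A} {hn : M.Normal} {Y : Type u} [CommGroup Y]
  {f : A →* MulAut Y} {ω : Y →* Y →* Kˣ} {π : M →* Y}

variable [Finite K] [Finite Y] [Nontrivial V] [FaithfulSMul A V] {w : V} {U : Subgroup Y}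

namespace Base

variable (hB : Base (K := K) V M hn f ω π w U)
include hB

/-- Components of a vanishing sum. -/
theorem cls_sum {ι : Type*} (y : ι → Y) (y₀ : Y) [DecidablePred fun t => (y t)⁻¹ * y₀ ∈ Pairing.perp ω U] :
    ∀ (S : Finset ι) (v : ι → V), (∀ t ∈ S, InCls ω π w U (y t) (v t)) → ∑ t ∈ S, v t = 0 →
      ∑ t ∈ S with (y t)⁻¹ * y₀ ∈ Pairing.perp ω U, v t = 0 := by
  classical
  intro S
  induction S using Finset.strongInduction with
  | H S ih =>
  intro v hv hsum
  by_cases hall : ∀ t ∈ S, (y t)⁻¹ * y₀ ∈ Pairing.perp ω U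
  · rwa [Finset.filter_true_of_mem hall]
  push Not at hall
  obtain ⟨t₁, ht₁, hout⟩ := hall
  obtain ⟨u, hu, hne⟩ : ∃ u ∈ U, ω ((y t₁)⁻¹ * y₀) u ≠ 1 := by
    by_contra h
    push Not at h
    exact hout h
  obtain ⟨m, rfl⟩ := hB.data.surj u
  obtain ⟨l, hl⟩ := (hB.mem_iff m).mp hu
  let c : ι → K := fun t => (ω (π m) (y t) : K) * l
  have hsub : ∑ t ∈ S.erase t₁, (c t - c t₁) • v t = 0 := by
    rw [Finset.sum_erase _ (by rw [sub_self, zero_smul]),
      Finset.sum_congr rfl fun t _ => sub_smul (c t) (c t₁) (v t), Finset.sum_sub_distrib, ← Finset.smul_sum,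
      hsum, smul_zero, sub_zero]
    have h := congrArg (fun x => (m : A) • x) hsum
    simp only [Finset.smul_sum, smul_zero] at h
    rw [← h]
    exact Finset.sum_congr rfl fun t ht => (hv t ht m hu l hl).symm
  have h := ih _ (Finset.erase_ssubset ht₁) (fun t => (c t - c t₁) • v t)
    (fun t ht => hB.cls_smul _ (hv t (Finset.mem_of_mem_erase ht))) hsub
  have hnot : t₁ ∉ S.filter (fun t => (y t)⁻¹ * y₀ ∈ Pairing.perp ω U) := fun h' =>
    hout (Finset.mem_filter.mp h').2
  rw [Finset.filter_erase, Finset.erase_eq_of_notMem hnot] at h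
  have hc : ∀ t, (y t)⁻¹ * y₀ ∈ Pairing.perp ω U → c t = (ω (π m) y₀ : K) * l := by
    intro t ht
    have h' := hB.symm_one (ht _ hu)
    rw [map_mul, map_inv, inv_mul_eq_one] at h'
    show (ω (π m) (y t) : K) * l = _
    rw [h']
  rw [Finset.sum_congr rfl fun t ht => by rw [hc t (Finset.mem_filter.mp ht).2], ← Finset.smul_sum,
    smul_eq_zero] at h
  refine h.resolve_left fun e => hne ?_
  show ω ((y t₁)⁻¹ * y₀) (π m) = 1
  refine hB.symm_one ?_
  rw [map_mul, map_inv, inv_mul_eq_one]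
  exact Units.ext (mul_right_cancel₀ (hB.eig_ne hl) (sub_eq_zero.mp e).symm)

/-- Equal sums have matching components. -/
theorem match_sum {ι : Type*} {S S' : Finset ι} {y y' : ι → Y} {p q : ι → V}
    (hp : ∀ t ∈ S, InCls ω π w U (y t) (p t)) (hq : ∀ s ∈ S', InCls ω π w U (y' s) (q s))
    (hy : ∀ t ∈ S, ∀ t' ∈ S, (y t')⁻¹ * y t ∈ Pairing.perp ω U → t' = t)
    (hy' : ∀ t ∈ S', ∀ t' ∈ S', (y' t')⁻¹ * y' t ∈ Pairing.perp ω U → t' = t)
    (h : ∑ t ∈ S, p t = ∑ s ∈ S', q s) {t : ι} (ht : t ∈ S) :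
    (∀ s ∈ S', (y' s)⁻¹ * y t ∈ Pairing.perp ω U → p t = q s) ∧
      (p t ≠ 0 → ∃ s ∈ S', (y' s)⁻¹ * y t ∈ Pairing.perp ω U) := by
  classical
  have h0 := hB.cls_sum (Sum.elim y y') (y t) (S.disjSum S') (Sum.elim p fun s => -q s) (by
    intro x hx
    rcases Finset.mem_disjSum.mp hx with ⟨a, ha, rfl⟩ | ⟨a, ha, rfl⟩
    · exact hp a ha
    · show InCls ω π w U (y' a) (-q a)
      rw [← neg_one_smul K]
      exact hB.cls_smul _ (hq a ha))
    (by rw [Finset.sum_disjSum]; simp [h])
  replace h0 : (∑ x ∈ S, if (y x)⁻¹ * y t ∈ Pairing.perp ω U then p x else 0) +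
      (∑ x ∈ S', if (y' x)⁻¹ * y t ∈ Pairing.perp ω U then -q x else 0) = 0 := by
    rw [Finset.sum_filter, Finset.sum_disjSum] at h0
    convert h0 using 3 <;> simp <;> congr
  rw [Finset.sum_eq_single t (fun b hb hne => if_neg fun hc => hne (hy t ht b hb hc))
    (fun hn => absurd ht hn), if_pos (by rw [inv_mul_cancel]; exact one_mem _)] at h0
  refine ⟨fun s hs hst => ?_, fun hne => ?_⟩
  · rw [Finset.sum_eq_single s (fun b hb hne => if_neg fun hc => hne ?_) (fun hn => absurd hs hn),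
      if_pos hst, ← sub_eq_add_neg, sub_eq_zero] at h0
    · exact h0
    · refine hy' s hs b hb ?_
      have := mul_mem hc (inv_mem hst)
      rwa [mul_inv_rev, inv_inv, mul_assoc, mul_inv_cancel_left] at this
  · by_contra hno
    push Not at hno
    rw [Finset.sum_eq_zero fun s hs => if_neg (hno s hs), add_zero] at h0
    exact hne h0

theorem move_cls {a : A} (ha : a • w = w) {v : V} (h : InCls ω π w U 1 v) :
    InCls ω π w U 1 (a • v) := by
  intro m hm l hl
  obtain ⟨σ, hσ⟩ := hB.quasi.semi a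
  set m' : M := ⟨a⁻¹ * m * a⁻¹⁻¹, hn.conj_mem _ m.2 a⁻¹⟩ with hm'
  have ha' : a⁻¹ • w = w := inv_smul_eq_iff.mpr ha.symm
  have hw' := hB.conj_smul ha' m
  rw [← hm', hl] at hw'
  obtain ⟨τ, hτ⟩ := hB.quasi.semi a⁻¹
  rw [hτ, ha'] at hw'
  have hmU : π m' ∈ U := (hB.mem_iff m').mpr ⟨_, hw'⟩
  have h' := h m' hmU _ hw'
  rw [map_one, Units.val_one, one_mul] at h' ⊢
  have hl' : σ (τ l) = l := smul_left_injective K hB.ne (by
    show σ (τ l) • w = l • w
    rw [← ha, ← hσ, ← ha', ← hτ, smul_inv_smul, ha', ha])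
  have h'' : a • (m' : A) • v = l • a • v := by rw [h', hσ, hl']
  rw [← h'', hm']
  show _ = a • (a⁻¹ * m * a⁻¹⁻¹) • v
  simp only [mul_smul, inv_inv, smul_inv_smul]

/-- A linear element fixing the translates by `m`, by generators, and by their products commutes with
`m`. -/
theorem commute_of_fix {a : A} (ha : a • w = w)
    {T : Set Y} (hT : ∀ S : Subgroup Y, Pairing.perp ω U ≤ S → T ⊆ S → S = ⊤) {m : M}
    (hm : a • (m : A) • w = (m : A) • w)
    (hfix : ∀ y ∈ T, ∃ m' : M, π m' = y ∧ a • (m' : A) • w = (m' : A) • w ∧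
      a • (m : A) • (m' : A) • w = (m : A) • (m' : A) • w) :
    ∀ x : V, a • (m : A) • x = (m : A) • a • x := by
  set d : M := m⁻¹ * ⟨a * m * a⁻¹, hn.conj_mem _ m.2 a⟩ with hd
  have hdw : (d : A) • w = w := by
    rw [hd, Subgroup.coe_mul, Subgroup.coe_inv, mul_smul, inv_smul_eq_iff, hB.conj_smul ha, hm]
  have hdU : π d ∈ U := (hB.mem_iff d).mpr ⟨1, by rw [one_smul, hdw]⟩
  have hax : ∀ x : V, a • (m : A) • x = (m : A) • (d : A) • a • x := fun x => by
    rw [hd, Subgroup.coe_mul, Subgroup.coe_inv, mul_smul, smul_inv_smul]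
    show _ = (a * m * a⁻¹) • a • x
    rw [mul_smul, mul_smul, inv_smul_smul]
  have hker : (ω (π d)).ker = ⊤ := by
    refine hT _ (fun y hy => MonoidHom.mem_ker.mpr (hB.symm_one (hy _ hdU))) fun y hy => ?_
    obtain ⟨m', rfl, hm', hmm'⟩ := hfix y hy
    have h := hmm'
    rw [hax, hm', hB.data.comm d m', hdw, hB.quasi.lin _ m.2] at h
    refine MonoidHom.mem_ker.mpr (Units.ext (smul_left_injective K ?_ (h.trans (one_smul K _).symm)))
    rw [ne_eq, smul_eq_zero_iff_eq, smul_eq_zero_iff_eq]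
    exact hB.ne
  obtain ⟨c, hc⟩ := (hB.data.one_iff d).mp (hB.data.nondeg _ fun z =>
    MonoidHom.mem_ker.mp (hker ▸ Subgroup.mem_top z))
  have hc1 : c = 1 := smul_left_injective K hB.ne (by
    show c • w = (1 : K) • w
    rw [one_smul, ← hc, hdw])
  intro x
  rw [hax, hc, hc1, one_smul]

/-- The triples. -/
theorem exists_tri {θ : K} (h0 : θ ≠ 0) (h1 : θ ≠ 1)
    (hgen : ∀ σ : K →+* K, σ θ = θ → ∀ k : K, σ k = k) : Tri A V := by
  classical
  obtain ⟨z₂, z₃, hz, hinner⟩ := hB.exists_inner h0 h1 hgen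
  set P := Pairing.perp ω U with hP
  obtain ⟨k, y, r, hyr, hind, hgenY⟩ := exists_gens (fun z s _ => hB.expo z s) P
  have hr : ∀ l < k, (r l).Prime := fun l hl => (hyr l hl).1
  choose X hX using fun l => hB.data.surj (y l)
  let wd : List ℕ → M := fun ls => (ls.map X).prod
  let cl : List ℕ → Y := fun ls => (ls.map y).prod
  have hwd : ∀ ls, π (wd ls) = cl ls := fun ls => by
    simp only [wd, cl, map_list_prod, List.map_map]
    congr 1
    exact List.map_congr_left fun l _ => hX l
  have hcons : ∀ l ls, ((wd (l :: ls) : M) : A) • w = (X l : A) • (wd ls : A) • w := fun l ls => by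
    simp only [wd, List.map_cons, List.prod_cons, Subgroup.coe_mul, mul_smul]
  have hwd1 : ∀ l, ((wd [l] : M) : A) • w = (X l : A) • w := fun l => by simp [wd]
  let vec : V → List ℕ → V := fun z ls => if ls = [] then z else (wd ls : A) • w
  have hveccls : ∀ z ls, InCls ω π w U 1 z → InCls ω π w U (cl ls) (vec z ls) := by
    intro z ls hzc
    by_cases hls : ls = []
    · simp only [vec, hls, if_pos, cl, List.map_nil, List.prod_nil]; exact hzc
    · simp only [vec, hls, if_false]
      have := hB.cls_move hB.cls_self (wd ls)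
      rwa [mul_one, hwd] at this
  refine ⟨fun p => (w, ∑ ls ∈ words₂ k, vec (z₂ p) ls, ∑ ls ∈ words₃ k r, vec (z₃ p) ls),
    fun p q a hpq => ?_⟩
  have ha : a • w = w := congrArg Prod.fst hpq
  have hfinj : ∀ {z : Y}, f a z ∈ P → z ∈ P := fun {z} hz => by
    have h := hB.f_perp (a := a⁻¹) (inv_smul_eq_iff.mpr ha.symm) hz
    rwa [← MulAut.mul_apply, ← map_mul, inv_mul_cancel, map_one] at h
  have hcongr : ∀ {ls ls' : List ℕ}, GoodList k r ls → GoodList k r ls' → (cl ls)⁻¹ * cl ls' ∈ P →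
      ls = ls' := fun h h' hc => eq_of_congr hr hind h h' hc
  -- matching
  have hmatch : ∀ (W : Finset (List ℕ)) (z z' : V), (∀ ls ∈ W, GoodList k r ls) → [] ∈ W →
      InCls ω π w U 1 z → InCls ω π w U 1 z' → a • ∑ ls ∈ W, vec z ls = ∑ ls ∈ W, vec z' ls →
      a • z = z' ∧ ∀ ls ∈ W, ls ≠ [] → ∃ s ∈ W, s ≠ [] ∧ (cl s)⁻¹ * f a (cl ls) ∈ P ∧
        a • (wd ls : A) • w = (wd s : A) • w := by
    intro W z z' hW hnil hzc hzc' e
    rw [Finset.smul_sum] at e
    have hp : ∀ ls ∈ W, InCls ω π w U (f a (cl ls)) (a • vec z ls) := by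
      intro ls _
      by_cases hls : ls = []
      · simp only [vec, hls, if_pos, cl, List.map_nil, List.prod_nil, map_one]
        exact hB.move_cls ha hzc
      · simp only [vec, hls, if_false, ← hB.conj_smul ha (wd ls)]
        have h := hB.cls_move hB.cls_self ⟨a * (wd ls : A) * a⁻¹, hn.conj_mem _ (wd ls).2 a⟩
        rwa [mul_one, ← hB.data.equivariant, hwd] at h
    have hm := fun {t} ht => hB.match_sum (S := W) (S' := W) (y := fun ls => f a (cl ls)) (y' := cl)
      (p := fun ls => a • vec z ls) (q := vec z') hp (fun ls _ => hveccls z' ls hzc')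
      (fun t ht t' ht' hc => hcongr (hW t' ht') (hW t ht) (hfinj (by rwa [map_mul, map_inv])))
      (fun t ht t' ht' hc => hcongr (hW t' ht') (hW t ht) hc) e (t := t) ht
    refine ⟨?_, fun ls hls hne => ?_⟩
    · have h := (hm hnil).1 [] hnil (by simp [cl])
      simpa [vec] using h
    · obtain ⟨s, hs, hsl⟩ := (hm hls).2 (by
        simp only [vec, hne, if_false, ne_eq, smul_eq_zero_iff_eq]
        exact hB.ne)
      have hsne : s ≠ [] := by
        rintro rfl
        refine hne (hcongr (hW _ hnil) (hW _ hls) (hfinj ?_)).symm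
        simpa [cl] using hsl
      refine ⟨s, hs, hsne, hsl, ?_⟩
      have h := (hm hls).1 s hs hsl
      simpa [vec, hne, hsne] using h
  obtain ⟨e2, hW2⟩ := hmatch (words₂ k) (z₂ p) (z₂ q) (fun ls h => good_words₂ hr h)
    (mem_words₂.mpr (Or.inl rfl)) (hz p).1 (hz q).1 (congrArg (fun t : V × V × V => t.2.1) hpq)
  obtain ⟨e3, hW3⟩ := hmatch (words₃ k r) (z₃ p) (z₃ q) (fun ls h => good_words₃ hr h)
    (mem_words₃.mpr (Or.inl rfl)) (hz p).2 (hz q).2 (congrArg (fun t : V × V × V => t.2.2) hpq)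
  obtain ⟨hpq', hlin, hperp⟩ := hinner p q a ha e2 e3
  refine ⟨hpq', ?_⟩
  -- the permutation of the generators is trivial
  have hρ : ∀ l < k, ∃ m < k, (y m)⁻¹ * f a (y l) ∈ P ∧ a • (X l : A) • w = (X m : A) • w := by
    intro l hl
    obtain ⟨s, hs, hsne, hsc, hsv⟩ := hW2 [l] (mem_words₂.mpr (Or.inr ⟨l, hl, rfl⟩)) (List.cons_ne_nil _ _)
    obtain ⟨m, hm, rfl⟩ := (mem_words₂.mp hs).resolve_left hsne
    exact ⟨m, hm, by simpa [cl] using hsc, by rwa [hwd1, hwd1] at hsv⟩
  choose ρ hρk hρc hρv using hρ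
  have hρinj : ∀ l (hl : l < k) l' (hl' : l' < k), ρ l hl = ρ l' hl' → l = l' := by
    intro l hl l' hl' e
    have h := mul_mem (inv_mem (hρc l hl)) (e ▸ hρc l' hl')
    rw [mul_inv_rev, inv_inv, mul_assoc, mul_inv_cancel_left, ← map_inv, ← map_mul] at h
    simpa using hcongr (good_single hr hl) (good_single hr hl') (by simpa [cl] using hfinj h)
  have hid : ∀ l (hl : l < k), ρ l hl = l := by
    intro l
    induction l using Nat.strong_induction_on with
    | _ l ih =>
    intro hl
    rcases l with _ | l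
    · obtain ⟨s, hs, hsne, hsc, -⟩ := hW3 [0] (mem_words₃.mpr (Or.inr (Or.inl ⟨hl, rfl⟩))) (List.cons_ne_nil _ _)
      have e : [ρ 0 hl] = s := hcongr (good_single hr (hρk 0 hl)) (good_words₃ hr hs) (by
        have h := mul_mem (hρc 0 hl) (inv_mem hsc)
        rw [mul_inv_rev, inv_inv, mul_assoc] at h
        simpa [cl] using h)
      rcases mem_words₃.mp hs with h | ⟨-, h⟩ | ⟨b, n, hn2, -, h⟩ | ⟨b, -, -, h⟩
      · exact absurd h hsne
      · simpa [← e] using h
      · have := congrArg List.length (e.trans h)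
        simp at this
        omega
      · simp [← e] at h
    · have hl' : l < k := by omega
      have hml : ρ (l + 1) hl ≠ l := fun e => by
        have := hρinj (l + 1) hl l hl' (e.trans (ih l (Nat.lt_succ_self l) hl').symm)
        omega
      set m := ρ (l + 1) hl with hm
      obtain ⟨s, hs, hsne, hsc, -⟩ := hW3 (List.range' l 2)
        (mem_words₃.mpr (Or.inr (Or.inr (Or.inl ⟨l, 2, le_rfl, by omega, rfl⟩)))) (List.cons_ne_nil _ _)
      set t : List ℕ := [min l m, max l m] with ht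
      have htg : GoodList k r t := by
        refine ⟨by simp [ht], fun x hx => ?_⟩
        have hmk := hρk (l + 1) hl
        have hxk : x < k := by
          simp only [ht, List.mem_cons, List.not_mem_nil, or_false] at hx
          omega
        refine ⟨hxk, lt_of_le_of_lt (List.nodup_iff_count_le_one.mp ?_ x) (hr x hxk).one_lt⟩
        simp [ht]
        omega
      have hcl : cl t = y l * y m := by
        rcases le_total l m with h | h
        · simp [cl, ht, min_eq_left h, max_eq_right h]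
        · simp [cl, ht, min_eq_right h, max_eq_left h, mul_comm]
      have e : t = s := hcongr htg (good_words₃ hr hs) (by
        have h1' := hρc l hl'
        rw [ih l (Nat.lt_succ_self l) hl'] at h1'
        have h := mul_mem (mul_mem h1' (hρc (l + 1) hl)) (inv_mem hsc)
        rw [hcl]
        convert h using 1
        simp only [cl, List.range'_succ, List.range'_zero, List.map_cons, List.map_nil, List.prod_cons,
          List.prod_nil, mul_one, map_mul]
        exact Additive.ofMul.injective (by simp; abel))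
      rcases mem_words₃.mp hs with h | ⟨-, h⟩ | ⟨b, n, hn2, -, h⟩ | ⟨b, -, -, h⟩
      · exact absurd h hsne
      · simp [← e, ht] at h
      · have hlen := congrArg List.length (e.trans h)
        simp [ht] at hlen
        subst hlen
        simp [← e, ht, List.range'_succ] at h
        by_contra hne
        have hm1 : m + 1 = l := by omega
        have := hρinj (l + 1) hl m (by omega) ((ih m (by omega) (by omega)).symm)
        omega
      · simp [← e, ht] at h
        omega
  have hfc : ∀ ls : List ℕ, (∀ x ∈ ls, x < k) → (cl ls)⁻¹ * f a (cl ls) ∈ P := by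
    intro ls
    induction ls with
    | nil => intro; simp [cl]
    | cons x ls ih =>
      intro h
      have hx := h x List.mem_cons_self
      have h1' := hρc x hx
      rw [hid x hx] at h1'
      have := mul_mem h1' (ih fun x' hx' => h x' (List.mem_cons_of_mem x hx'))
      convert this using 1
      simp only [cl, List.map_cons, List.prod_cons, map_mul]
      exact Additive.ofMul.injective (by simp; abel)
  have hfix3 : ∀ ls ∈ words₃ k r, ls ≠ [] → a • (wd ls : A) • w = (wd ls : A) • w := by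
    intro ls hls hne
    obtain ⟨s, hs, -, hsc, hsv⟩ := hW3 ls hls hne
    have hg := good_words₃ hr hls
    have : s = ls := hcongr (good_words₃ hr hs) hg (by
      have h := mul_mem hsc (inv_mem (hfc ls fun x hx => (hg.2 x hx).1))
      rw [mul_inv_rev, inv_inv, mul_assoc, mul_inv_cancel_left] at h
      exact h)
    rwa [this] at hsv
  have hfX : ∀ l < k, a • (X l : A) • w = (X l : A) • w := fun l hl => by
    have := hρv l hl
    rwa [hid l hl] at this
  have hint : ∀ b n, b + n ≤ k → a • (wd (List.range' b n) : A) • w = (wd (List.range' b n) : A) • w := by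
    intro b n h
    match n with
    | 0 => simp [wd, ha]
    | 1 => rw [List.range'_one, hwd1]; exact hfX b (by omega)
    | n + 2 => exact hfix3 _ (mem_words₃.mpr (Or.inr (Or.inr (Or.inl ⟨b, n + 2, by omega, h, rfl⟩)))) (by simp [List.range'_succ])
  have hswap : ∀ m m' : M, a • (m : A) • (m' : A) • w = (m : A) • (m' : A) • w →
      a • (m' : A) • (m : A) • w = (m' : A) • (m : A) • w := fun m m' h => by
    rw [hB.data.comm, hlin, h]
  -- the shifts
  let D : ℕ → M := fun l => (X l)⁻¹ * ⟨a * X l * a⁻¹, hn.conj_mem _ (X l).2 a⟩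
  have hDw : ∀ l < k, (D l : A) • w = w := fun l hl => by
    show (((X l)⁻¹ * ⟨a * X l * a⁻¹, hn.conj_mem _ (X l).2 a⟩ : M) : A) • w = w
    rw [Subgroup.coe_mul, Subgroup.coe_inv, mul_smul, inv_smul_eq_iff, hB.conj_smul ha, hfX l hl]
  have hpair : ∀ l < k, ∀ m' : M, a • (m' : A) • w = (m' : A) • w →
      (a • (X l : A) • (m' : A) • w = (X l : A) • (m' : A) • w ↔ ω (π (D l)) (π m') = 1) := by
    intro l hl m' hm'
    have hax : a • (X l : A) • (m' : A) • w = (ω (π (D l)) (π m') : K) • (X l : A) • (m' : A) • w := by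
      calc a • (X l : A) • (m' : A) • w = (a * X l * a⁻¹) • a • (m' : A) • w := by
            simp only [mul_smul, inv_smul_smul]
        _ = (X l : A) • (D l : A) • (m' : A) • w := by
            rw [hm']
            show _ = (X l : A) • ((X l : A)⁻¹ * (a * X l * a⁻¹)) • (m' : A) • w
            simp only [mul_smul, smul_inv_smul]
        _ = _ := by rw [hB.data.comm (D l) m', hDw l hl, hB.quasi.lin _ (X l).2]
    rw [hax]
    refine ⟨fun h => Units.ext (smul_left_injective K ?_ (h.trans (one_smul K _).symm)), fun h => by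
      rw [h, Units.val_one, one_smul]⟩
    rw [ne_eq, smul_eq_zero_iff_eq, smul_eq_zero_iff_eq]
    exact hB.ne
  have hDU : ∀ l < k, π (D l) ∈ U := fun l hl => (hB.mem_iff _).mpr ⟨1, by rw [one_smul, hDw l hl]⟩
  have hright : ∀ l b, l < b → b < k → a • (X l : A) • (X b : A) • w = (X l : A) • (X b : A) • w := by
    intro l b hlb hb
    have hl : l < k := by omega
    have hω : ∀ j, l + 1 + j ≤ k → ω (π (D l)) (cl (List.range' (l + 1) j)) = 1 := by
      intro j hj
      rw [← hwd, ← hpair l hl _ (hint _ j hj), ← hcons, ← List.range'_succ]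
      exact hint l (j + 1) (by omega)
    refine (hpair l hl _ (hfX b hb)).mpr ?_
    obtain ⟨j, rfl⟩ : ∃ j, b = l + 1 + j := ⟨b - (l + 1), by omega⟩
    have e1 := hω j (by omega)
    have e2 := hω (j + 1) (by omega)
    simp only [cl, List.range'_1_concat, List.map_append, List.map_cons, List.map_nil, List.prod_append,
      List.prod_cons, List.prod_nil, mul_one, map_mul] at e2
    simp only [cl] at e1
    rwa [e1, one_mul, ← hX] at e2
  have hXX : ∀ l < k, ∀ b < k, a • (X l : A) • (X b : A) • w = (X l : A) • (X b : A) • w := by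
    intro l hl b hb
    rcases lt_trichotomy l b with h | rfl | h
    · exact hright l b h hb
    · by_cases h2 : r l = 2
      · obtain ⟨c, hc⟩ := (hB.data.one_iff (X l * X l)).mp (by
          rw [map_mul, hX, ← sq]
          have := (hyr l hl).2
          rwa [h2] at this)
        rw [show (X l : A) • (X l : A) • w = ((X l * X l : M) : A) • w by rw [Subgroup.coe_mul, mul_smul], hc,
          hlin, ha]
      · have := hfix3 [l, l] (mem_words₃.mpr (Or.inr (Or.inr (Or.inr ⟨l, hl, h2, rfl⟩)))) (by simp)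
        rwa [hcons, hwd1] at this
    · exact hswap _ _ (hright b l h hl)
  have hT : ∀ S : Subgroup Y, P ≤ S → y '' {l | l < k} ⊆ S → S = ⊤ := fun S hPS hS =>
    hgenY S hPS fun l hl => hS ⟨l, hl, rfl⟩
  have hcommX : ∀ l < k, ∀ x : V, a • (X l : A) • x = (X l : A) • a • x := fun l hl =>
    hB.commute_of_fix ha hT (hfX l hl) (by
      rintro _ ⟨b, hb, rfl⟩
      exact ⟨X b, hX b, hfX b hb, hXX l hl b hb⟩)
  have hcommP : ∀ n : M, π n ∈ P → ∀ x : V, a • (n : A) • x = (n : A) • a • x := fun n hn' =>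
    hB.commute_of_fix ha hT (hperp n hn') (by
      rintro _ ⟨b, hb, rfl⟩
      refine ⟨X b, hX b, hfX b hb, hswap _ _ ?_⟩
      exact (hpair b hb n (hperp n hn')).mpr (hB.symm_one (hn' _ (hDU b hb))))
  let C : Subgroup M :=
    { carrier := {m | ∀ x : V, a • (m : A) • x = (m : A) • a • x}
      one_mem' := fun x => by simp
      mul_mem' := fun {m m'} h h' x => by rw [Subgroup.coe_mul, mul_smul, mul_smul, h, h']
      inv_mem' := fun {m} h x => by
        rw [Subgroup.coe_inv, eq_inv_smul_iff, ← h, smul_inv_smul] }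
  have hCtop : C.map π = ⊤ := hgenY _ (fun z hz => by
    obtain ⟨n, rfl⟩ := hB.data.surj z
    exact ⟨n, hcommP n hz, rfl⟩) fun l hl => ⟨X l, hcommX l hl, hX l⟩
  obtain ⟨haM, c, hc⟩ := hB.quasi.cent a hlin fun m hm x => by
    obtain ⟨m', hm', e⟩ : π ⟨m, hm⟩ ∈ C.map π := hCtop ▸ Subgroup.mem_top _
    obtain ⟨l, -, hl⟩ := scal_of_pi_eq hB.quasi hB.data e.symm
    show a • ((⟨m, hm⟩ : M) : A) • x = ((⟨m, hm⟩ : M) : A) • a • x
    rw [hl, hl, hlin, hm']
  intro x
  have hc1 : c = 1 := smul_left_injective K hB.ne (by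
    show c • w = (1 : K) • w
    rw [one_smul, ← hc, ha])
  rw [hc, hc1, one_smul]

end Base

/-- Triples in the quasi-primitive setting. -/
theorem tri_quasi [Finite V] (hQ : Quasi K V M) [Finite A] : Tri A V := by
  classical
  haveI := Fintype.ofFinite K
  obtain ⟨g, hg⟩ := IsCyclic.exists_monoid_generator (α := Kˣ)
  have hgen : ∀ σ : K →+* K, σ (g : K) = g → ∀ k : K, σ k = k := by
    intro σ hσ k
    rcases eq_or_ne k 0 with rfl | hk
    · exact map_zero σ
    obtain ⟨n, hn⟩ := Submonoid.mem_powers_iff _ _ |>.mp (hg (Units.mk0 k hk))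
    have hk' : k = (g : K) ^ n := by rw [← Units.val_pow_eq_pow_val, hn, Units.val_mk0]
    rw [hk', map_pow, hσ]
  obtain ⟨Y, _, _, f, ω, π, hD⟩ := hQ.exists_quot
  by_cases hg1 : g = 1
  · have hunit : ∀ k : Kˣ, k = 1 := fun k => by
      obtain ⟨n, rfl⟩ := Submonoid.mem_powers_iff _ _ |>.mp (hg k)
      rw [hg1, one_pow]
    have hlin : ∀ (a : A) (k : K) (x : V), a • k • x = k • a • x := fun a k x => by
      obtain ⟨σ, hσ⟩ := hQ.semi a
      rw [hσ, show σ k = k from hgen σ.toRingHom (by simp [hg1]) k]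
    have htriv : ∀ (a : A) (x : V), a • x = x := fun a => by
      obtain ⟨-, c, hc⟩ := hQ.cent a (hlin a) fun m hm x => by
        obtain ⟨l, hl⟩ := (hD.one_iff ⟨m, hm⟩).mp (hD.nondeg _ fun z => hunit _)
        show a • ((⟨m, hm⟩ : M) : A) • x = ((⟨m, hm⟩ : M) : A) • a • x
        rw [hl, hl, hlin]
      intro x
      rw [hc, show c = 1 from congrArg Units.val (hunit (Units.mk0 c (scal_ne_zero hc))), one_smul]
    obtain ⟨v, hv⟩ := exists_ne (0 : V)
    refine ⟨![(0, 0, v), (0, v, 0), (v, 0, 0), (0, v, v), (v, 0, v)], fun i j a h => ⟨?_, htriv a⟩⟩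
    have hv' := hv.symm
    fin_cases i <;> fin_cases j <;> simp_all
  · obtain ⟨w, U, hB⟩ := exists_base (K := K) hQ hD
    exact hB.exists_tri (Units.ne_zero g) (fun e => hg1 (Units.ext e)) hgen

end Cfsg.Agent.GStructB.ThreeBase
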