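import Cfsg.Agent.GStructB.CoprimeBase.Quot

/-!
# Lines with largest stabilizers in a class two group

In the quasi-primitive setting a non-zero vector `w` whose line has largest stabilizer in `M` gives a
totally isotropic subgroup `U` of the classes; the classes perpendicular to `U` form `U` itself or four
cosets of `U`.
-/

set_option autoImplicit false
set_option linter.style.haveILetI false
set_option linter.unusedSectionVars false
set_option linter.unusedSimpArgs false

open MulAction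

namespace Cfsg.Agent.GStructB.ThreeBase

universe u v

open OddBase (Pairing.perp Pairing.card_perp Pairing.card_hom_le Pairing.swap)
open CoprimeBase (IsScal Quasi QuotData scal_ne_zero)

section pairing

theorem comm_id₁ {Y : Type u} [CommGroup Y] (a b c d : Y) :
    a * ((a * c)⁻¹ * (b * d)) * b⁻¹ = d * c⁻¹ := Additive.ofMul.injective (by simp; abel)

theorem comm_id₂ {Y : Type u} [CommGroup Y] (a b c : Y) : (a * c)⁻¹ * (b * c) = a⁻¹ * b :=
  Additive.ofMul.injective (by simp; abel)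

variable {Y : Type u} [CommGroup Y] [Finite Y] {K : Type v} [Field K] [Finite K] {ω : Y →* Y →* Kˣ}

/-- The double perpendicular. -/
theorem perp_perp (halt : ∀ y, ω y y = 1) (hnd : ∀ y, (∀ z, ω y z = 1) → y = 1) (U : Subgroup Y) :
    Pairing.perp ω (Pairing.perp ω U) = U := by
  have hupper : ∀ X : Subgroup Y, Nat.card X * Nat.card (Pairing.perp ω X) ≤ Nat.card Y := by
    intro X
    set P := Pairing.perp ω X
    haveI : Finite (Y ⧸ P →* Kˣ) :=
      Finite.of_injective (fun g : Y ⧸ P →* Kˣ => (g : Y ⧸ P → Kˣ)) DFunLike.coe_injective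
    have hle : ∀ x : X, P ≤ (ω.flip (x : Y)).ker := fun x y hy => MonoidHom.mem_ker.mpr (hy x.1 x.2)
    have hinj : Function.Injective (fun x : X => QuotientGroup.lift P (ω.flip (x : Y)) (hle x)) := by
      intro x x' e
      refine Subtype.ext (div_eq_one.mp (hnd _ fun y => ?_))
      have h : ω y x.1 = ω y x'.1 := DFunLike.congr_fun e (y : Y ⧸ P)
      rw [map_div, MonoidHom.div_apply, Pairing.swap ω halt y, Pairing.swap ω halt y, h, div_self']
    calc Nat.card X * Nat.card P ≤ Nat.card (Y ⧸ P) * Nat.card P :=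
          Nat.mul_le_mul_right _ ((Nat.card_le_card_of_injective _ hinj).trans Pairing.card_hom_le)
      _ = Nat.card Y := by rw [mul_comm]; exact P.card_mul_index
  refine (Subgroup.eq_of_le_of_card_ge (fun x hx y hy => ?_) ?_).symm
  · rw [Pairing.swap ω halt y x, hy x hx, inv_one]
  · have h1 := hupper (Pairing.perp ω U)
    have h2 := Pairing.card_perp ω U
    exact Nat.le_of_mul_le_mul_left ((h1.trans h2).trans (le_of_eq (mul_comm _ _))) Nat.card_pos

/-- Elements of prime order generate when the exponent is square-free. -/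
theorem le_of_primes (hexp : ∀ (y : Y) (s : ℕ), s.Prime → y ^ (s * s) = 1 → y ^ s = 1) {P H : Subgroup Y}
    (h : ∀ y ∈ P, ∀ r : ℕ, r.Prime → y ^ r = 1 → y ∈ H) : P ≤ H := by
  intro y hy
  induction hn : orderOf y using Nat.strong_induction_on generalizing y with
  | _ n ih =>
  subst hn
  by_cases h1 : orderOf y = 1
  · rw [orderOf_eq_one_iff.mp h1]; exact H.one_mem
  obtain ⟨r, hr, t, ht⟩ := Nat.exists_prime_and_dvd h1
  have ht0 : 0 < t := by
    rcases Nat.eq_zero_or_pos t with h' | h'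
    · have := orderOf_pos y; rw [ht, h', mul_zero] at this; omega
    · exact h'
  by_cases hyr : y ^ r = 1
  · exact h y hy r hr hyr
  have hrt : ¬ r ∣ t := by
    rintro ⟨s, rfl⟩
    have h0 : (y ^ s) ^ (r * r) = 1 := by
      rw [← pow_mul, show s * (r * r) = r * (r * s) by ring, ← ht, pow_orderOf_eq_one]
    have h' := hexp _ r hr h0
    rw [← pow_mul] at h'
    have h2 := hr.one_lt
    have hs : 0 < r * s := ht0
    have := Nat.le_of_dvd (by rw [mul_comm]; exact hs) (orderOf_dvd_of_pow_eq_one h')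
    rw [ht, mul_comm s] at this
    nlinarith
  have hyt : y ^ t ∈ H := h _ (P.pow_mem hy t) r hr (by rw [← pow_mul, mul_comm, ← ht, pow_orderOf_eq_one])
  have hyr' : y ^ r ∈ H := by
    refine ih (orderOf (y ^ r)) ?_ (P.pow_mem hy r) rfl
    rw [orderOf_pow_of_dvd hr.ne_zero ⟨t, ht⟩, ht, Nat.mul_div_cancel_left _ hr.pos]
    exact lt_mul_left ht0 hr.one_lt
  obtain ⟨a, b, hab⟩ := Nat.isCoprime_iff_coprime.mpr ((hr.coprime_iff_not_dvd).mpr hrt)
  rw [show y = (y ^ r) ^ a * (y ^ t) ^ b by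
    rw [← zpow_natCast y r, ← zpow_natCast y t, ← zpow_mul, ← zpow_mul, ← zpow_add, mul_comm, add_comm,
      mul_comm (t : ℤ), add_comm, hab, zpow_one]]
  exact H.mul_mem (H.zpow_mem hyr' a) (H.zpow_mem hyt b)

/-- A partner of the same prime order. -/
theorem exists_partner (halt : ∀ y, ω y y = 1) (hnd : ∀ y, (∀ z, ω y z = 1) → y = 1)
    (hexp : ∀ (y : Y) (s : ℕ), s.Prime → y ^ (s * s) = 1 → y ^ s = 1) (U : Subgroup Y) {y : Y}
    (hy : y ∉ U) {r : ℕ} (hr : r.Prime) (hyr : y ^ r = 1) :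
    ∃ z ∈ Pairing.perp ω U, z ^ r = 1 ∧ ω y z ≠ 1 := by
  by_contra h
  push Not at h
  apply hy
  rw [← perp_perp halt hnd U]
  intro z hz
  refine le_of_primes hexp (P := Pairing.perp ω U) (H := (ω y).ker) (fun x hx s hs hxs => ?_) hz
  rw [MonoidHom.mem_ker]
  rcases eq_or_ne s r with rfl | hsr
  · exact h x hx hxs
  · have h1 : ω y x ^ r = 1 := by rw [← MonoidHom.pow_apply, ← map_pow, hyr, map_one]; rfl
    have h2 : ω y x ^ s = 1 := by rw [← map_pow, hxs, map_one]
    have hco : Nat.gcd r s = 1 := (Nat.coprime_primes hr hs).mpr hsr.symm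
    have := pow_gcd_eq_one.mpr ⟨h1, h2⟩
    rwa [hco, pow_one] at this

/-- Independent generators of prime orders modulo a subgroup. -/
theorem exists_gens (hexp : ∀ (y : Y) (s : ℕ), s.Prime → y ^ (s * s) = 1 → y ^ s = 1) (P : Subgroup Y) :
    ∃ (k : ℕ) (y : ℕ → Y) (r : ℕ → ℕ), (∀ l < k, (r l).Prime ∧ y l ^ r l = 1) ∧
      (∀ e e' : ℕ → ℕ, (∀ l < k, e l < r l ∧ e' l < r l) →
        (∏ l ∈ Finset.range k, y l ^ e l)⁻¹ * ∏ l ∈ Finset.range k, y l ^ e' l ∈ P → ∀ l < k, e l = e' l) ∧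
      ∀ S : Subgroup Y, P ≤ S → (∀ l < k, y l ∈ S) → S = ⊤ := by
  classical
  by_contra hno
  push Not at hno
  have key : ∀ n : ℕ, ∃ (y : ℕ → Y) (r : ℕ → ℕ), (∀ l < n, (r l).Prime ∧ y l ^ r l = 1) ∧
      ∀ e e' : ℕ → ℕ, (∀ l < n, e l < r l ∧ e' l < r l) →
        (∏ l ∈ Finset.range n, y l ^ e l)⁻¹ * ∏ l ∈ Finset.range n, y l ^ e' l ∈ P → ∀ l < n, e l = e' l := by
    intro n
    induction n with
    | zero => exact ⟨fun _ => 1, fun _ => 2, fun l hl => absurd hl (by omega),
        fun _ _ _ _ l hl => absurd hl (by omega)⟩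
    | succ n ih =>
      obtain ⟨y, r, hyr, hind⟩ := ih
      obtain ⟨S, hPS, hyS, hS⟩ := hno n y r hyr hind
      obtain ⟨x, s, hs, hxs, hxS⟩ : ∃ (x : Y) (s : ℕ), s.Prime ∧ x ^ s = 1 ∧ x ∉ S := by
        by_contra h
        push Not at h
        exact hS (eq_top_iff.mpr (le_of_primes hexp fun z _ t ht hzt => h z t ht hzt))
      refine ⟨Function.update y n x, Function.update r n s, fun l hl => ?_, fun e e' hb hP l hl => ?_⟩
      · rcases Nat.lt_succ_iff_lt_or_eq.mp hl with h | rfl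
        · simp only [Function.update_of_ne (Nat.ne_of_lt h)]; exact hyr l h
        · simp only [Function.update_self]; exact ⟨hs, hxs⟩
      · have hprod : ∀ e : ℕ → ℕ, ∏ l ∈ Finset.range (n + 1), Function.update y n x l ^ e l =
            (∏ l ∈ Finset.range n, y l ^ e l) * x ^ e n := fun e => by
          rw [Finset.prod_range_succ, Function.update_self]
          congr 1
          exact Finset.prod_congr rfl fun l hl => by
            rw [Function.update_of_ne (Nat.ne_of_lt (Finset.mem_range.mp hl))]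
        have hbn := hb n (Nat.lt_succ_self n)
        simp only [Function.update_self] at hbn
        rw [hprod, hprod] at hP
        have hmem : ∀ e : ℕ → ℕ, ∏ l ∈ Finset.range n, y l ^ e l ∈ S := fun e =>
          S.prod_mem fun l hl => S.pow_mem (hyS l (Finset.mem_range.mp hl)) _
        have hx : x ^ ((e' n : ℤ) - e n) ∈ S := by
          have h := S.mul_mem (S.mul_mem (hmem e) (hPS hP)) (S.inv_mem (hmem e'))
          convert h using 1
          rw [zpow_sub, zpow_natCast, zpow_natCast]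
          exact (comm_id₁ _ _ _ _).symm
        have hen : e n = e' n := by
          by_contra hne
          have hnd : ¬ (s : ℤ) ∣ ((e' n : ℤ) - e n) := by
            intro hd
            have := Int.eq_zero_of_abs_lt_dvd hd (abs_lt.mpr ⟨by omega, by omega⟩)
            omega
          obtain ⟨a, b, hab⟩ := (Prime.coprime_iff_not_dvd (Nat.prime_iff_prime_int.mp hs)).mpr hnd
          apply hxS
          rw [show x = (x ^ (s : ℤ)) ^ a * (x ^ ((e' n : ℤ) - e n)) ^ b by
            rw [← zpow_mul, ← zpow_mul, ← zpow_add, mul_comm (s : ℤ), mul_comm _ b, hab, zpow_one]]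
          exact S.mul_mem (S.zpow_mem (by rw [zpow_natCast, hxs]; exact S.one_mem) a) (S.zpow_mem hx b)
        rcases Nat.lt_succ_iff_lt_or_eq.mp hl with h | rfl
        · refine hind e e' (fun m hm => ?_) ?_ l h
          · have := hb m (Nat.lt_succ_of_lt hm)
            rwa [Function.update_of_ne (Nat.ne_of_lt hm)] at this
          · rwa [hen, comm_id₂] at hP
        · exact hen
  obtain ⟨y, r, hyr, hind⟩ := key (Nat.card Y)
  have h2 : 2 ^ Nat.card Y ≤ Nat.card Y := by
    have hcard : Nat.card (Fin (Nat.card Y) → Fin 2) = 2 ^ Nat.card Y := by simp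
    rw [← hcard]
    refine Nat.card_le_card_of_injective (fun g : Fin (Nat.card Y) → Fin 2 => ∏ l ∈ Finset.range (Nat.card Y),
      y l ^ (if h : l < Nat.card Y then (g ⟨l, h⟩ : ℕ) else 0)) fun g g' e => funext fun l => Fin.ext ?_
    have h := hind (fun m => if h : m < Nat.card Y then (g ⟨m, h⟩ : ℕ) else 0)
      (fun m => if h : m < Nat.card Y then (g' ⟨m, h⟩ : ℕ) else 0) (fun m hm => ?_)
      (by simp only at e ⊢; rw [e, inv_mul_cancel]; exact P.one_mem) l l.2
    · simpa using h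
    · simp only [dif_pos hm]
      have := (hyr m hm).1.two_le
      exact ⟨by omega, by omega⟩
  exact absurd h2 (not_le.mpr Nat.lt_two_pow_self)

end pairing

/-- Two elements of the units that are not `r`-th powers multiply to one. -/
theorem exists_rpow {K : Type v} [Field K] [Finite K] {r : ℕ} (hr : r.Prime) {a b : K} (ha : a ≠ 0)
    (hb : b ≠ 0) (hna : ∀ k : K, a ≠ k ^ r) : ∃ (i : ℕ) (k : K), k ≠ 0 ∧ a ^ i * b = k ^ r := by
  obtain ⟨g, hg⟩ := IsCyclic.exists_monoid_generator (α := Kˣ)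
  obtain ⟨m, hm⟩ := Submonoid.mem_powers_iff _ _ |>.mp (hg (Units.mk0 a ha))
  obtain ⟨n, hn⟩ := Submonoid.mem_powers_iff _ _ |>.mp (hg (Units.mk0 b hb))
  have hma : a = (g : K) ^ m := by rw [← Units.val_pow_eq_pow_val, hm, Units.val_mk0]
  have hnb : b = (g : K) ^ n := by rw [← Units.val_pow_eq_pow_val, hn, Units.val_mk0]
  have hndvd : ¬ r ∣ m := by
    rintro ⟨c, rfl⟩
    exact hna ((g : K) ^ c) (by rw [hma, ← pow_mul, mul_comm])
  haveI := Fact.mk hr
  have hm0 : (m : ZMod r) ≠ 0 := fun h => hndvd ((ZMod.natCast_eq_zero_iff m r).mp h)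
  set i := (-(n : ZMod r) * (m : ZMod r)⁻¹).val with hi
  obtain ⟨c, hc⟩ : r ∣ m * i + n := by
    rw [← ZMod.natCast_eq_zero_iff, Nat.cast_add, Nat.cast_mul, hi, ZMod.natCast_zmod_val]
    field_simp
    ring
  exact ⟨i, (g : K) ^ c, pow_ne_zero _ (Units.ne_zero g), by rw [hma, hnb, ← pow_mul, ← pow_add, hc, pow_mul']⟩

/-- A primitive root from a non-trivial root of unity. -/
theorem primitive_of_pow {K : Type v} [Field K] {r : ℕ} (hr : r.Prime) {c : K} (h : c ^ r = 1)
    (h1 : c ≠ 1) : IsPrimitiveRoot c r :=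
  haveI := Fact.mk hr
  IsPrimitiveRoot.iff_orderOf.mpr (orderOf_eq_prime h h1)

variable {K : Type u} [Field K] {A : Type u} [Group A] {V : Type u} [AddCommGroup V] [Module K V]
  [DistribMulAction A V] {M : Subgroup A} {hn : M.Normal} {Y : Type u} [CommGroup Y]
  {f : A →* MulAut Y} {ω : Y →* Y →* Kˣ} {π : M →* Y}

/-- A vector whose line has largest stabilizer, with the classes of the stabilizer. -/
structure Base (V : Type u) [AddCommGroup V] [Module K V] [DistribMulAction A V] (M : Subgroup A)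
    (hn : M.Normal) (f : A →* MulAut Y) (ω : Y →* Y →* Kˣ) (π : M →* Y) (w : V) (U : Subgroup Y) : Prop where
  quasi : Quasi K V M
  data : QuotData V M hn f ω π
  ne : w ≠ 0
  mem_iff : ∀ m : M, π m ∈ U ↔ ∃ k : K, (m : A) • w = k • w
  maxi : ∀ w' : V, w' ≠ 0 → (∀ m : M, π m ∈ U → ∃ k : K, (m : A) • w' = k • w') →
    ∀ m : M, (∃ k : K, (m : A) • w' = k • w') → π m ∈ U

/-- Proportional representatives. -/
theorem scal_of_pi_eq [Nontrivial V] (hQ : Quasi K V M) (hD : QuotData V M hn f ω π) {m m' : M}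
    (h : π m = π m') : ∃ l : K, l ≠ 0 ∧ ∀ x : V, (m : A) • x = l • (m' : A) • x := by
  have h1 : π (m'⁻¹ * m) = 1 := by rw [map_mul, map_inv, h, inv_mul_cancel]
  obtain ⟨l, hl⟩ := (hD.one_iff _).mp h1
  refine ⟨l, scal_ne_zero hl, fun x => ?_⟩
  rw [← hQ.lin _ m'.2, ← hl, Subgroup.coe_mul, Subgroup.coe_inv, mul_smul, smul_inv_smul]

/-- There is such a vector. -/
theorem exists_base [Finite V] [Nontrivial V] [Finite Y] (hQ : Quasi K V M) (hD : QuotData V M hn f ω π) :
    ∃ (w : V) (U : Subgroup Y), Base (K := K) V M hn f ω π w U := by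
  classical
  let S : V → Subgroup M := fun w =>
    { carrier := {m | ∃ k : Kˣ, (m : A) • w = (k : K) • w}
      one_mem' := ⟨1, by simp⟩
      mul_mem' := fun {a b} ⟨k, hk⟩ ⟨l, hl⟩ => ⟨k * l, by
        rw [Subgroup.coe_mul, mul_smul, hl, hQ.lin _ a.2, hk, smul_smul, Units.val_mul, mul_comm]⟩
      inv_mem' := fun {a} ⟨k, hk⟩ => ⟨k⁻¹, by
        rw [Subgroup.coe_inv, inv_smul_eq_iff, hQ.lin _ a.2, hk, smul_smul, ← Units.val_mul,
          inv_mul_cancel, Units.val_one, one_smul]⟩ }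
  have hmem : ∀ w : V, w ≠ 0 → ∀ m : M, π m ∈ (S w).map π ↔ ∃ k : K, (m : A) • w = k • w := by
    intro w hw m
    constructor
    · rintro ⟨m', ⟨k, hk⟩, e⟩
      obtain ⟨l, -, hl⟩ := scal_of_pi_eq hQ hD e.symm
      exact ⟨l * k, by rw [hl, hk, smul_smul]⟩
    · rintro ⟨k, hk⟩
      have hk0 : k ≠ 0 := fun h => hw (by rwa [h, zero_smul, smul_eq_zero_iff_eq] at hk)
      exact ⟨m, ⟨Units.mk0 k hk0, hk⟩, rfl⟩
  obtain ⟨w, hw, hmax⟩ := Set.Finite.exists_maximalFor (fun w : V => Nat.card ((S w).map π))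
    {w : V | w ≠ 0} (Set.toFinite _) (exists_ne (0 : V))
  refine ⟨w, (S w).map π, hQ, hD, hw, hmem w hw, fun w' hw' hle m hm => ?_⟩
  have hUle : (S w).map π ≤ (S w').map π := fun y hy => by
    obtain ⟨n, hn', rfl⟩ := hy
    exact (hmem w' hw' n).mpr (hle n ⟨n, hn', rfl⟩)
  rw [Subgroup.eq_of_le_of_card_ge hUle (hmax (j := w') hw' (Subgroup.card_le_of_le hUle))]
  exact (hmem w' hw' m).mpr hm

variable [Finite K] [Finite Y] [Nontrivial V] [FaithfulSMul A V] {w : V} {U : Subgroup Y}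

namespace Base

variable (hB : Base (K := K) V M hn f ω π w U)
include hB

theorem eig_ne {g : A} {k : K} (h : g • w = k • w) : k ≠ 0 := fun e =>
  hB.ne (by rwa [e, zero_smul, smul_eq_zero_iff_eq] at h)

theorem isotropic : U ≤ Pairing.perp ω U := by
  intro y hy u hu
  obtain ⟨m, rfl⟩ := hB.data.surj y
  obtain ⟨m', rfl⟩ := hB.data.surj u
  obtain ⟨k, hk⟩ := (hB.mem_iff m).mp hy
  obtain ⟨k', hk'⟩ := (hB.mem_iff m').mp hu
  have h := hB.data.comm m m' w
  rw [hk', hk, hB.quasi.lin _ m.2, hB.quasi.lin _ m'.2, hk, hk', smul_smul, smul_smul, smul_smul] at h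
  have h' := smul_left_injective K hB.ne h
  have hne : k' * k ≠ 0 := mul_ne_zero (hB.eig_ne hk') (hB.eig_ne hk)
  exact Units.ext (mul_right_cancel₀ hne (by
    rw [Units.val_one, one_mul]
    linear_combination (-1 : K) * h'))

theorem expo (y : Y) (s : ℕ) (h : y ^ (s * s) = 1) : y ^ s = 1 := by
  obtain ⟨m, rfl⟩ := hB.data.surj y
  rw [← map_pow, hB.data.one_iff, Subgroup.coe_pow] at h ⊢
  exact hB.quasi.expo m.2 h

theorem pp : Pairing.perp ω (Pairing.perp ω U) = U := perp_perp hB.data.alt hB.data.nondeg U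

theorem symm_one {y z : Y} (h : ω y z = 1) : ω z y = 1 := by
  rw [Pairing.swap ω hB.data.alt y z, h, inv_one]

/-- An element perpendicular to `U` with an `r`-th power as `r`-th power is in `U`. -/
theorem eigen {r : ℕ} (hr : r.Prime) {ζ : K} (hζ : IsPrimitiveRoot ζ r) (n : M)
    (hnP : π n ∈ Pairing.perp ω U) {k : K} (hk : k ≠ 0) (hkr : ∀ x : V, (n : A) ^ r • x = k ^ r • x) :
    π n ∈ U := by
  classical
  let InW : V → Prop := fun v => ∀ m : M, π m ∈ U → ∀ l : K, (m : A) • w = l • w → (m : A) • v = l • v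
  let g : V →ₗ[K] V :=
    { toFun := fun x => k⁻¹ • (n : A) • x
      map_add' := fun x y => by rw [smul_add, smul_add]
      map_smul' := fun l x => by rw [hB.quasi.lin _ n.2, smul_comm, RingHom.id_apply] }
  have hgW : ∀ v, InW v → InW (g v) := by
    intro v hv m hm l hl
    show (m : A) • k⁻¹ • (n : A) • v = l • k⁻¹ • (n : A) • v
    rw [hB.quasi.lin _ m.2, hB.data.comm, hB.symm_one (hnP _ hm), Units.val_one, one_smul, hv m hm l hl,
      hB.quasi.lin _ n.2, smul_comm]
  suffices h : ∀ (S : Finset K) (v : V), InW v → v ≠ 0 →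
      Polynomial.aeval g (∏ c ∈ S, (Polynomial.X - Polynomial.C c)) v = 0 →
      ∃ (v' : V) (c : K), InW v' ∧ v' ≠ 0 ∧ g v' = c • v' by
    obtain ⟨v', c, hv', hv0, hc⟩ := h (Polynomial.nthRootsFinset r (1 : K)) w (fun m _ l hl => hl) hB.ne (by
      rw [← Polynomial.X_pow_sub_one_eq_prod hr.pos hζ, map_sub, map_pow, Polynomial.aeval_X, map_one,
        LinearMap.sub_apply]
      have hpow : ∀ (j : ℕ) (x : V), (g ^ j) x = (k⁻¹) ^ j • (n : A) ^ j • x := by
        intro j
        induction j with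
        | zero => intro x; simp
        | succ j ih =>
          intro x
          rw [pow_succ' g, Module.End.mul_apply, ih]
          show k⁻¹ • (n : A) • (k⁻¹) ^ j • (n : A) ^ j • x = _
          rw [hB.quasi.lin _ n.2, smul_smul, ← pow_succ', ← mul_smul (α := A), ← pow_succ']
      rw [hpow, hkr, smul_smul, ← mul_pow, inv_mul_cancel₀ hk, one_pow, one_smul, Module.End.one_apply,
        sub_self])
    refine hB.maxi v' hv0 (fun m hm => ?_) n ⟨k * c, ?_⟩
    · obtain ⟨l, hl⟩ := (hB.mem_iff m).mp hm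
      exact ⟨l, hv' m hm l hl⟩
    · rw [mul_smul, ← hc]
      show (n : A) • v' = k • k⁻¹ • (n : A) • v'
      rw [smul_inv_smul₀ hk]
  intro S
  induction S using Finset.induction_on with
  | empty =>
    intro v _ hv h
    rw [Finset.prod_empty, map_one, Module.End.one_apply] at h
    exact absurd h hv
  | insert c S hc ih =>
    intro v hv hv0 h
    rw [Finset.prod_insert hc, mul_comm, map_mul, Module.End.mul_apply, map_sub, Polynomial.aeval_X,
      Polynomial.aeval_C, LinearMap.sub_apply, Module.algebraMap_end_apply] at h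
    by_cases h0 : g v - c • v = 0
    · exact ⟨v, c, hv, hv0, sub_eq_zero.mp h0⟩
    · refine ih _ (fun m hm l hl => ?_) h0 h
      rw [smul_sub, hB.quasi.lin _ m.2, hgW v hv m hm l hl, hv m hm l hl, smul_sub, smul_comm c l]

/-- Powers of products. -/
theorem mul_pow_smul (a b : M) : ∀ (j : ℕ) (x : V),
    ((a * b : M) : A) ^ j • x = (ω (π b) (π a) : K) ^ j.choose 2 • (a : A) ^ j • (b : A) ^ j • x := by
  intro j
  induction j with
  | zero => intro x; simp
  | succ j ih =>
    intro x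
    have h' := hB.data.comm (b ^ j) a ((b : A) • x)
    rw [map_pow, map_pow, MonoidHom.pow_apply, Units.val_pow_eq_pow_val, Subgroup.coe_pow] at h'
    rw [pow_succ, mul_smul, ih, Subgroup.coe_mul, mul_smul, h', hB.quasi.lin _ (M.pow_mem a.2 j), smul_smul,
      ← pow_add, ← mul_smul (α := A) ((a : A) ^ j), ← pow_succ, ← mul_smul (α := A) ((b : A) ^ j), ← pow_succ,
      show (j + 1).choose 2 = j.choose 2 + j by rw [Nat.choose_succ_succ, Nat.choose_one_right]; ring]

/-- Two classes of order `r` outside `U`. -/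
theorem two_classes {r : ℕ} (hr : r.Prime) {ζ : K} (hζ : IsPrimitiveRoot ζ r) {y z : Y}
    (hy : y ∈ Pairing.perp ω U) (hyr : y ^ r = 1) (hz : z ∈ Pairing.perp ω U) (hzr : z ^ r = 1)
    (hcomm : ω z y ^ r.choose 2 = 1) (hyU : y ∉ U) : ∃ i : ℕ, y ^ i * z ∈ U := by
  obtain ⟨n, rfl⟩ := hB.data.surj y
  obtain ⟨n', rfl⟩ := hB.data.surj z
  rw [← map_pow, hB.data.one_iff, Subgroup.coe_pow] at hyr hzr
  obtain ⟨a, ha⟩ := hyr
  obtain ⟨b, hb⟩ := hzr
  have hna : ∀ k : K, a ≠ k ^ r := fun k e => hyU (hB.eigen hr hζ n hy (k := k)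
    (fun hk => scal_ne_zero ha (by rw [e, hk, zero_pow hr.ne_zero])) fun x => by rw [ha, e])
  obtain ⟨i, k, hk, hik⟩ := exists_rpow hr (scal_ne_zero ha) (scal_ne_zero hb) hna
  refine ⟨i, ?_⟩
  rw [← map_pow, ← map_mul]
  refine hB.eigen hr hζ _ (by rw [map_mul, map_pow]; exact Subgroup.mul_mem _ (Subgroup.pow_mem _ hy i) hz)
    hk fun x => ?_
  have hai : ∀ (j : ℕ) (x : V), ((n : A) ^ r) ^ j • x = a ^ j • x := by
    intro j
    induction j with
    | zero => intro x; simp
    | succ j ih => intro x; rw [pow_succ', mul_smul, ih, ha, smul_smul, ← pow_succ']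
  rw [hB.mul_pow_smul, map_pow, map_pow, Units.val_pow_eq_pow_val, ← pow_mul, mul_comm i, pow_mul,
    ← Units.val_pow_eq_pow_val, hcomm, Units.val_one, one_pow, one_smul, Subgroup.coe_pow, ← pow_mul,
    mul_comm i, pow_mul, hb, hai, smul_smul, hik]

/-- The classes perpendicular to `U`. -/
theorem trichotomy : Pairing.perp ω U = U ∨ ((2 : K) ≠ 0 ∧ ∃ i ∈ Pairing.perp ω U, ∃ j ∈ Pairing.perp ω U,
    (i ∉ U ∧ j ∉ U ∧ i * j ∉ U) ∧ i * i = 1 ∧ j * j = 1 ∧
      ∀ y ∈ Pairing.perp ω U, y ∈ U ∨ y * i ∈ U ∨ y * j ∈ U ∨ y * (i * j) ∈ U) := by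
  refine or_iff_not_imp_left.mpr fun hne => ?_
  have hexp : ∀ (y : Y) (s : ℕ), s.Prime → y ^ (s * s) = 1 → y ^ s = 1 := fun y s _ => hB.expo y s
  have hodd : ∀ y ∈ Pairing.perp ω U, ∀ r : ℕ, r.Prime → y ^ r = 1 → y ∉ U → r = 2 := by
    intro y hy r hr hyr hyU
    by_contra hr2
    obtain ⟨z, hz, hzr, hyz⟩ := exists_partner hB.data.alt hB.data.nondeg hexp U hyU hr hyr
    have hr' : ω y z ^ r = 1 := by rw [← map_pow, hzr, map_one]
    have hζ : IsPrimitiveRoot (ω y z : K) r := primitive_of_pow hr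
      (by rw [← Units.val_pow_eq_pow_val, hr', Units.val_one]) fun e => hyz (Units.ext e)
    obtain ⟨i, hi⟩ := hB.two_classes hr hζ hy hyr hz hzr (by
      obtain ⟨t, ht⟩ : r ∣ r.choose 2 :=
        hr.dvd_choose_self (by norm_num) (lt_of_le_of_ne hr.two_le (Ne.symm hr2))
      rw [ht, pow_mul, Pairing.swap ω hB.data.alt y z, inv_pow, hr', inv_one, one_pow]) hyU
    have h := hy _ hi
    rw [map_mul, map_pow, hB.data.alt, one_pow, one_mul] at h
    exact hyz h
  obtain ⟨i, hi, hi2, hiU⟩ : ∃ i ∈ Pairing.perp ω U, i * i = 1 ∧ i ∉ U := by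
    by_contra h
    push Not at h
    refine hne (le_antisymm (le_of_primes hexp fun y hy r hr hyr => ?_) hB.isotropic)
    by_contra hyU
    have hr2 := hodd y hy r hr hyr hyU
    rw [hr2, sq] at hyr
    exact hyU (h y hy hyr)
  obtain ⟨j, hj, hj2', hij⟩ :=
    exists_partner hB.data.alt hB.data.nondeg hexp U hiU Nat.prime_two (by rw [sq, hi2])
  have hj2 : j * j = 1 := by rw [← sq, hj2']
  have hsign : ∀ a b : Y, a * a = 1 → ω a b ≠ 1 → (ω a b : K) = -1 := fun a b ha hab => by
    refine (mul_self_eq_one_iff.mp ?_).resolve_left fun e => hab (Units.ext e)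
    rw [← Units.val_mul, ← MonoidHom.mul_apply, ← map_mul, ha, map_one]
    rfl
  have h2 : (2 : K) ≠ 0 := fun h => hij (Units.ext (by
    rw [hsign i j hi2 hij, Units.val_one]; linear_combination -h))
  have hζ : IsPrimitiveRoot (-1 : K) 2 := primitive_of_pow Nat.prime_two (by norm_num)
    fun h => h2 (by linear_combination -h)
  have hclass : ∀ a ∈ Pairing.perp ω U, a * a = 1 → a ∉ U → ∀ b ∈ Pairing.perp ω U, b * b = 1 → ω a b = 1 →
      b ∈ U ∨ b * a ∈ U := by
    intro a ha ha2 haU b hb hb2 hab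
    obtain ⟨t, ht⟩ := hB.two_classes Nat.prime_two hζ ha (by rw [sq, ha2]) hb (by rw [sq, hb2])
      (by rw [hB.symm_one hab, one_pow]) haU
    rcases Nat.even_or_odd' t with ⟨s, rfl | rfl⟩
    · left
      rwa [pow_mul, sq, ha2, one_pow, one_mul] at ht
    · right
      rwa [pow_succ, pow_mul, sq, ha2, one_pow, one_mul, mul_comm] at ht
  have hjU : j ∉ U := fun h => hij (hi j h)
  have hijU : i * j ∉ U := fun h => hij (by
    have h' := hi _ h
    rwa [map_mul, hB.data.alt, one_mul] at h')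
  have hij2 : (i * j) * (i * j) = 1 := by rw [mul_mul_mul_comm, hi2, hj2, one_mul]
  refine ⟨h2, i, hi, j, hj, ⟨hiU, hjU, hijU⟩, hi2, hj2, fun y hy => ?_⟩
  -- reduce to the square one part
  let H : Subgroup Y := Subgroup.closure ((U : Set Y) ∪ {i, j})
  have hyH : y ∈ H := by
    refine le_of_primes hexp (P := Pairing.perp ω U) (fun x hx r hr hxr => ?_) hy
    by_cases hxU : x ∈ U
    · exact Subgroup.subset_closure (Or.inl hxU)
    have hx2 : x * x = 1 := by rw [← sq, ← hodd x hx r hr hxr hxU, hxr]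
    have hiH : i ∈ H := Subgroup.subset_closure (Or.inr (Or.inl rfl))
    have hjH : j ∈ H := Subgroup.subset_closure (Or.inr (Or.inr rfl))
    have hUH : ∀ u ∈ U, u ∈ H := fun u hu => Subgroup.subset_closure (Or.inl hu)
    by_cases hix : ω i x = 1
    · rcases hclass i hi hi2 hiU x hx hx2 hix with h | h
      · exact absurd h hxU
      · rw [show x = x * i * i by rw [mul_assoc, hi2, mul_one]]
        exact H.mul_mem (hUH _ h) hiH
    · have hixj : ω i (x * j) = 1 := by
        refine Units.ext ?_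
        rw [map_mul, Units.val_mul, hsign i x hi2 hix, hsign i j hi2 hij, Units.val_one]
        norm_num
      rcases hclass i hi hi2 hiU (x * j) (Subgroup.mul_mem _ hx hj)
          (by rw [mul_mul_mul_comm, hx2, hj2, one_mul]) hixj with h | h
      · rw [show x = x * j * j by rw [mul_assoc, hj2, mul_one]]
        exact H.mul_mem (hUH _ h) hjH
      · rw [show x = x * j * i * (j * i)⁻¹ by group]
        exact H.mul_mem (hUH _ h) (H.inv_mem (H.mul_mem hjH hiH))
  have hi' : ∀ x, i * (i * x) = x := fun x => by rw [← mul_assoc, hi2, one_mul]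
  have hj' : ∀ x, j * (j * x) = x := fun x => by rw [← mul_assoc, hj2, one_mul]
  let Q : Subgroup Y :=
    { carrier := {c | c = 1 ∨ c = i ∨ c = j ∨ c = i * j}
      one_mem' := Or.inl rfl
      mul_mem' := by
        rintro a b (rfl | rfl | rfl | rfl) (rfl | rfl | rfl | rfl) <;>
          simp [mul_comm, mul_left_comm, mul_assoc, hi2, hj2, hi', hj']
      inv_mem' := by
        rintro a (rfl | rfl | rfl | rfl) <;>
          simp [inv_eq_of_mul_eq_one_right hi2, inv_eq_of_mul_eq_one_right hj2, mul_comm] }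
  have hHQ : H ≤ U ⊔ Q := by
    rw [Subgroup.closure_le]
    rintro x (hx | rfl | rfl)
    · exact Subgroup.mem_sup_left hx
    · exact Subgroup.mem_sup_right (Or.inr (Or.inl rfl))
    · exact Subgroup.mem_sup_right (Or.inr (Or.inr (Or.inl rfl)))
  obtain ⟨u, hu, c, hc, rfl⟩ := Subgroup.mem_sup.mp (hHQ hyH)
  rcases hc with rfl | rfl | rfl | rfl
  · exact Or.inl (by rwa [mul_one])
  · exact Or.inr (Or.inl (by rwa [mul_assoc, hi2, mul_one]))
  · exact Or.inr (Or.inr (Or.inl (by rwa [mul_assoc, hj2, mul_one])))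
  · exact Or.inr (Or.inr (Or.inr (by rwa [mul_assoc, hij2, mul_one])))

end Base

end Cfsg.Agent.GStructB.ThreeBase
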